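import Mathlib
import Cfsg.Agent.Lib.JordanCover
import Cfsg.Agent.Lib.ClassPiBound
import Cfsg.Agent.Lib.PComplement
import Cfsg.Agent.Lib.TIHall.Basic

/-!
If no conjugacy class size is divisible by the square of the smallest prime divisor `p` of the
group order, the group has a normal `p`-complement.
-/

set_option autoImplicit false

namespace CfsgLib.SquareFreeClass

open Cfsg CfsgLib.ClassPiBound CfsgLib.ClassPiCount

universe u

variable {G : Type u} [Group G]

theorem index_centralizer_mk_dvd (N : Subgroup G) [N.Normal] (g : G) :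
    (Subgroup.centralizer ({(g : G ⧸ N)} : Set (G ⧸ N))).index ∣
      (Subgroup.centralizer ({g} : Set G)).index := by
  refine dvd_trans (Subgroup.index_dvd_of_le ?_)
    (Subgroup.index_map_dvd (f := QuotientGroup.mk' N) _ (QuotientGroup.mk'_surjective N))
  rintro _ ⟨c, hc, rfl⟩
  rw [Subgroup.mem_centralizer_singleton_iff, QuotientGroup.mk'_apply, ← QuotientGroup.mk_mul,
    ← QuotientGroup.mk_mul, Subgroup.mem_centralizer_singleton_iff.1 hc]

theorem index_centralizer_normal_dvd [Finite G] (N : Subgroup G) [N.Normal] (g : N) :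
    (Subgroup.centralizer ({g} : Set N)).index ∣ (Subgroup.centralizer ({(g : G)} : Set G)).index := by
  have h : (Subgroup.centralizer ({(g : G)} : Set G)).subgroupOf N = Subgroup.centralizer ({g} : Set N) := by
    ext y
    rw [Subgroup.mem_subgroupOf, Subgroup.mem_centralizer_singleton_iff, Subgroup.mem_centralizer_singleton_iff,
      Subtype.ext_iff]
    rfl
  rw [← h]
  exact CfsgLib.TIHall.relIndex_dvd_index_of_normal_right _ N

variable {p : ℕ} [Fact p.Prime]

/-- A central extension by a `p`-group of a group with a normal `p`-complement. -/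
theorem complement_of_central_quotient [Finite G] (Z : Subgroup G) [Z.Normal] (hZc : Z ≤ Subgroup.center G)
    (h : HasNormalPComplement p (G ⧸ Z)) : HasNormalPComplement p G := by
  rw [hasNormalPComplement_iff_pResidual] at h ⊢
  set K := pResidual p G with hK
  obtain ⟨P⟩ : Nonempty (Sylow p K) := inferInstance
  have hc : ∀ x : K, x ∈ (P : Subgroup K) → (x : G) ∈ Subgroup.center G := by
    intro x hx
    refine hZc ((QuotientGroup.eq_one_iff (x : G)).1 (orderOf_eq_one_iff.1 ?_))
    have hmem : ((x : G) : G ⧸ Z) ∈ pResidual p (G ⧸ Z) := by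
      refine (show K.map (QuotientGroup.mk' Z) ≤ pResidual p (G ⧸ Z) from ?_) ⟨_, x.2, rfl⟩
      rw [Subgroup.map_le_iff_le_comap]
      exact pResidual_le fun g hg => mem_pResidual (hg.coprime_dvd_left (orderOf_map_dvd _ g))
    obtain ⟨k, hk⟩ := IsPGroup.iff_orderOf.1 P.isPGroup' ⟨x, hx⟩
    rw [Subgroup.orderOf_mk] at hk
    refine Nat.eq_one_of_dvd_coprimes ((h.coprime_dvd_left (Subgroup.orderOf_dvd_natCard _ hmem)).pow_right k)
      dvd_rfl ?_
    rw [← hk, ← Subgroup.orderOf_coe]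
    exact orderOf_map_dvd (QuotientGroup.mk' Z) (x : G)
  have hn := hasNormalPComplement_of_normalizer_le_centralizer P fun n _ x hx =>
    Subtype.ext (Subgroup.mem_center_iff.1 (hc x hx) n).symm
  rw [hasNormalPComplement_iff_pResidual, pResidual_idem, Subgroup.card_top] at hn
  exact hn

theorem sylow_centralizer_index [Finite G] (g : G) (hg : ¬ p ^ 2 ∣ (Subgroup.centralizer ({g} : Set G)).index) :
    ∃ (T : Sylow p G) (S : Subgroup G), S ≤ (T : Subgroup G) ∧ (∀ s ∈ S, Commute s g) ∧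
      S.relIndex (T : Subgroup G) ∣ p := by
  have hp := (Fact.out : p.Prime)
  obtain ⟨S⟩ : Nonempty (Sylow p (Subgroup.centralizer ({g} : Set G))) := inferInstance
  set C := Subgroup.centralizer ({g} : Set G) with hC
  obtain ⟨T, hT⟩ := (S.isPGroup'.map C.subtype).exists_le_sylow
  refine ⟨T, _, hT, ?_, ?_⟩
  · rintro _ ⟨s, -, rfl⟩
    exact Subgroup.mem_centralizer_singleton_iff.1 s.2
  have h1 : Nat.card ((S : Subgroup C).map C.subtype) * ((S : Subgroup C).map C.subtype).relIndex (T : Subgroup G)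
      = Nat.card (T : Subgroup G) := by
    have := Subgroup.card_mul_index (((S : Subgroup C).map C.subtype).subgroupOf (T : Subgroup G))
    rwa [Nat.card_congr (Subgroup.subgroupOfEquivOfLe hT).toEquiv] at this
  rw [Subgroup.card_map_of_injective C.subtype_injective] at h1
  obtain ⟨i, hi⟩ := (Nat.dvd_prime_pow hp).1 (show ((S : Subgroup C).map C.subtype).relIndex (T : Subgroup G) ∣
    p ^ (Nat.card G).factorization p by rw [← T.card_eq_multiplicity, ← h1]; exact dvd_mul_left _ _)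
  rw [hi.2]
  refine pow_dvd_pow p (m := i) (n := 1) ?_ |>.trans (by rw [pow_one])
  by_contra hlt
  refine hg ?_
  have h2 : Nat.card C * C.index = Nat.card G := C.card_mul_index
  have h3 : p ^ i ∣ C.index := by
    have h4 : Nat.card (T : Subgroup G) ∣ Nat.card G := Subgroup.card_subgroup_dvd_card _
    rw [← h1, hi.2, ← h2, ← (S : Subgroup C).card_mul_index, mul_assoc] at h4
    exact (Nat.Coprime.pow_left i (hp.coprime_iff_not_dvd.2 S.not_dvd_index)).dvd_of_dvd_mul_left
      ((Nat.mul_dvd_mul_iff_left Nat.card_pos).1 h4)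
  exact (pow_dvd_pow p (by omega)).trans h3

theorem commutator_le_of_relIndex [Finite G] (T : Sylow p G) {S : Subgroup G} (hle : S ≤ (T : Subgroup G))
    (h : S.relIndex (T : Subgroup G) ∣ p) :
    ∀ a ∈ (T : Subgroup G), ∀ b ∈ (T : Subgroup G), a * b * a⁻¹ * b⁻¹ ∈ S := by
  have hp := (Fact.out : p.Prime)
  intro a ha b hb
  rcases (Nat.dvd_prime hp).1 h with h1 | h1
  · exact Subgroup.relIndex_eq_one.1 h1 (mul_mem (mul_mem (mul_mem ha hb) (inv_mem ha)) (inv_mem hb))
  set S' := S.subgroupOf (T : Subgroup G)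
  have hnt : 1 < Nat.card (T : Subgroup G) := by
    have := Subgroup.index_dvd_card S'
    rw [show S'.index = p from h1] at this
    exact lt_of_lt_of_le hp.one_lt (Nat.le_of_dvd Nat.card_pos this)
  haveI hn : S'.Normal := by
    refine Subgroup.normal_of_index_eq_minFac_card ?_
    obtain ⟨i, hi⟩ := IsPGroup.iff_card.1 T.isPGroup'
    rw [show S'.index = p from h1, hi, Nat.pow_minFac (fun e => by rw [hi, e, pow_zero] at hnt; omega), hp.minFac_eq]
  haveI : IsCyclic ((T : Subgroup G) ⧸ S') := isCyclic_of_prime_card (p := p) (by rw [← Subgroup.index_eq_card]; exact h1)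
  have key : ((⟨a, ha⟩ * ⟨b, hb⟩ * (⟨a, ha⟩ : (T : Subgroup G))⁻¹ * (⟨b, hb⟩ : (T : Subgroup G))⁻¹ : (T : Subgroup G)) :
      (T : Subgroup G) ⧸ S') = 1 := by
    obtain ⟨c, hc⟩ := IsCyclic.exists_generator (α := (T : Subgroup G) ⧸ S')
    rw [QuotientGroup.mk_mul, QuotientGroup.mk_mul, QuotientGroup.mk_mul, QuotientGroup.mk_inv, QuotientGroup.mk_inv]
    obtain ⟨i, hi⟩ := hc (⟨a, ha⟩ : (T : Subgroup G))
    obtain ⟨j, hj⟩ := hc (⟨b, hb⟩ : (T : Subgroup G))
    rw [← hi, ← hj, (Commute.zpow_zpow_self c i j).eq, mul_inv_cancel_right, mul_inv_cancel]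
  exact Subgroup.mem_subgroupOf.1 ((QuotientGroup.eq_one_iff
    (N := S') (⟨a, ha⟩ * ⟨b, hb⟩ * (⟨a, ha⟩ : (T : Subgroup G))⁻¹ * (⟨b, hb⟩ : (T : Subgroup G))⁻¹)).1 key)

/-- The commutators of a Sylow subgroup are central. -/
theorem sylow_commutator_central [Finite G]
    (h : ∀ g : G, ¬ p ^ 2 ∣ (Subgroup.centralizer ({g} : Set G)).index) (P : Sylow p G)
    {a b : G} (ha : a ∈ (P : Subgroup G)) (hb : b ∈ (P : Subgroup G)) :
    a * b * a⁻¹ * b⁻¹ ∈ Subgroup.center G := by
  set z := a * b * a⁻¹ * b⁻¹ with hz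
  have htop : Subgroup.centralizer ({z} : Set G) = ⊤ := by
    refine CfsgLib.eq_top_of_conj_cover _ fun g => ?_
    obtain ⟨T, S, hle, hS, hidx⟩ := sylow_centralizer_index g (h g)
    obtain ⟨x, hx⟩ := MulAction.exists_smul_eq G P T
    have hT : ∀ y ∈ (P : Subgroup G), x * y * x⁻¹ ∈ (T : Subgroup G) := fun y hy => by
      rw [← hx]; exact ⟨y, hy, rfl⟩
    have h1 := hS _ (commutator_le_of_relIndex T hle hidx _ (hT a ha) _ (hT b hb))
    refine ⟨x⁻¹, ?_⟩
    rw [Subgroup.mem_centralizer_singleton_iff, inv_inv]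
    calc x⁻¹ * g * x * z = x⁻¹ * (g * (x * a * x⁻¹ * (x * b * x⁻¹) * (x * a * x⁻¹)⁻¹ * (x * b * x⁻¹)⁻¹)) * x := by
          rw [hz]; group
      _ = x⁻¹ * ((x * a * x⁻¹ * (x * b * x⁻¹) * (x * a * x⁻¹)⁻¹ * (x * b * x⁻¹)⁻¹) * g) * x := by rw [h1.eq]
      _ = z * (x⁻¹ * g * x) := by rw [hz]; group
  exact Subgroup.mem_center_iff.2 fun g => Subgroup.mem_centralizer_singleton_iff.1 (htop.ge (Subgroup.mem_top g))

omit [Fact p.Prime] in
/-- An element moved by an element of order prime to the smallest prime has more than `p` conjugates. -/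
theorem exists_many_conj [Finite G] (hmin : ∀ q : ℕ, q.Prime → q ∣ Nat.card G → p ≤ q) {y x : G}
    (hy : ¬ p ∣ orderOf y) (hxy : y * x ≠ x * y) :
    p < Set.ncard (Set.range fun n : ℤ => y ^ n * x * (y ^ n)⁻¹) := by
  set S := Subgroup.zpowers (ConjAct.toConjAct y)
  haveI : Finite (ConjAct G) := ‹Finite G›
  have horb : MulAction.orbit S x = Set.range fun n : ℤ => y ^ n * x * (y ^ n)⁻¹ := by
    ext w
    constructor
    · rintro ⟨⟨s, n, rfl⟩, rfl⟩
      exact ⟨n, by show _ = (ConjAct.toConjAct y ^ n) • x; rw [← map_zpow, ConjAct.toConjAct_smul]⟩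
    · rintro ⟨n, rfl⟩
      exact ⟨⟨_, n, rfl⟩, by show (ConjAct.toConjAct y ^ n) • x = _; rw [← map_zpow, ConjAct.toConjAct_smul]⟩
  rw [← horb, ← MulAction.index_stabilizer S x]
  set m := (MulAction.stabilizer S x).index with hm
  have hd : m ∣ orderOf y := by
    have h := Subgroup.index_dvd_card (MulAction.stabilizer S x)
    rw [Nat.card_zpowers] at h
    exact h.trans (orderOf_map_dvd (ConjAct.toConjAct : G ≃* ConjAct G).toMonoidHom y)
  have hm1 : m ≠ 1 := by
    intro e
    have h1 : (⟨ConjAct.toConjAct y, Subgroup.mem_zpowers _⟩ : S) ∈ MulAction.stabilizer S x := by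
      rw [Subgroup.index_eq_one.1 e]; exact Subgroup.mem_top _
    have h2 : y * x * y⁻¹ = x := by
      rw [← ConjAct.toConjAct_smul]; exact h1
    exact hxy (mul_inv_eq_iff_eq_mul.1 h2)
  have hq := Nat.minFac_prime hm1
  have h1 := hmin _ hq ((m.minFac_dvd.trans hd).trans (orderOf_dvd_natCard y))
  have h2 : m.minFac ≠ p := fun e => hy (e ▸ m.minFac_dvd.trans hd)
  have h3 : 0 < m := Nat.pos_of_ne_zero Subgroup.index_ne_zero_of_finite
  have := Nat.minFac_le h3
  omega

theorem mul_card_range_le {α β : Type*} [Finite α] (f : α → β) (S : Set α) (m : ℕ)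
    (h : ∀ x ∉ S, m + 1 ≤ Nat.card {y // f y = f x}) :
    (m + 1) * Nat.card (Set.range f) ≤ Nat.card α + m * Nat.card S := by
  classical
  haveI := Fintype.ofFinite α
  rw [Nat.card_eq_fintype_card (α := α), Nat.card_coe_set_eq, ← Finset.card_univ,
    Set.ncard_eq_toFinset_card', Set.toFinset_range, Nat.card_coe_set_eq, Set.ncard_eq_toFinset_card',
    Finset.card_eq_sum_card_image f Finset.univ,
    Finset.card_eq_sum_card_fiberwise (f := f) (s := S.toFinset) (t := Finset.univ.image f)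
      (fun x _ => Finset.mem_coe.2 (Finset.mem_image_of_mem _ (Finset.mem_univ x))),
    Finset.mul_sum, ← Finset.sum_add_distrib, mul_comm (m + 1), ← smul_eq_mul]
  refine Finset.card_nsmul_le_sum _ _ _ fun b hb => ?_
  obtain ⟨x, -, rfl⟩ := Finset.mem_image.1 hb
  by_cases hx : x ∈ S
  · have h1 : 0 < (Finset.univ.filter fun a => f a = f x).card := Finset.card_pos.2 ⟨x, by simp⟩
    have h2 : 1 ≤ (S.toFinset.filter fun a => f a = f x).card := Finset.card_pos.2 ⟨x, by simp [hx]⟩
    have := Nat.mul_le_mul_left m h2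
    omega
  · have h1 : Nat.card {y // f y = f x} = (Finset.univ.filter fun a => f a = f x).card := by
      rw [Nat.card_eq_fintype_card, Fintype.card_subtype]
    have := h x hx
    omega

theorem card_le_prime_mul_cnt_lt [Finite G]
    (h : ∀ g : G, ¬ p ^ 2 ∣ (Subgroup.centralizer ({g} : Set G)).index) (P : Sylow p G)
    (hP : (P : Subgroup G) ≠ ⊥) : Nat.card (P : Subgroup G) < p * cnt {p} G := by
  classical
  have hp := (Fact.out : p.Prime)
  haveI := Fintype.ofFinite G
  have hcnt : Nat.card {C : ConjClasses G // ∀ q : ℕ, q.Prime →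
        (∃ g : G, ConjClasses.mk g = C ∧ q ∣ orderOf g) → q ∈ ({p} : Set ℕ)} = cnt {p} G :=
    Nat.card_congr (Equiv.subtypeEquivRight fun C => ⟨fun hC x hx q hq hd =>
      hC q hq ⟨x, ConjClasses.mem_carrier_iff_mk_eq.1 hx, hd⟩, fun hC q hq ⟨x, hx, hd⟩ =>
      hC x (ConjClasses.mem_carrier_iff_mk_eq.2 hx) q hq hd⟩)
  have hpairs := card_pairs (G := G) ({p} : Set ℕ)
  rw [hcnt, Nat.card_congr (Equiv.subtypeProdEquivSigmaSubtype fun (g x : G) => IsPiEl {p} x ∧ Commute g x),
    Nat.card_sigma] at hpairs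
  have hle : ∀ g : G, Nat.card (P : Subgroup G) ≤ p * Nat.card {x : G // IsPiEl {p} x ∧ Commute g x} := by
    intro g
    obtain ⟨T, S, hST, hS, hidx⟩ := sylow_centralizer_index g (h g)
    have h1 : Nat.card S ≤ Nat.card {x : G // IsPiEl {p} x ∧ Commute g x} :=
      Nat.card_le_card_of_injective (fun s : S => (⟨s, isPiEl_of_mem_sylow T ⟨s, hST s.2⟩, (hS s s.2).symm⟩ :
        {x : G // IsPiEl {p} x ∧ Commute g x})) (fun a b e => Subtype.ext (congrArg (fun z : {x : G // IsPiEl {p} x ∧ Commute g x} => (z : G)) e))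
    have h2 := Subgroup.card_mul_index (S.subgroupOf (T : Subgroup G))
    rw [Nat.card_congr (Subgroup.subgroupOfEquivOfLe hST).toEquiv] at h2
    rw [P.card_eq_multiplicity, ← T.card_eq_multiplicity, ← h2, mul_comm p]
    exact Nat.mul_le_mul h1 (Nat.le_of_dvd hp.pos hidx)
  have hone : Nat.card (P : Subgroup G) < p * Nat.card {x : G // IsPiEl {p} x ∧ Commute 1 x} := by
    have h1 : Nat.card (P : Subgroup G) ≤ Nat.card {x : G // IsPiEl {p} x ∧ Commute 1 x} :=
      Nat.card_le_card_of_injective (fun s : (P : Subgroup G) => (⟨s, isPiEl_of_mem_sylow P s, Commute.one_left _⟩ :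
        {x : G // IsPiEl {p} x ∧ Commute 1 x})) (fun a b e => Subtype.ext (congrArg (fun z : {x : G // IsPiEl {p} x ∧ Commute 1 x} => (z : G)) e))
    calc _ < p * Nat.card (P : Subgroup G) := lt_mul_of_one_lt_left Nat.card_pos hp.one_lt
      _ ≤ _ := Nat.mul_le_mul_left p h1
  have hsum := Finset.sum_lt_sum (s := (Finset.univ : Finset G)) (fun g _ => hle g) ⟨1, Finset.mem_univ _, hone⟩
  rw [Finset.sum_const, Finset.card_univ, smul_eq_mul, ← Finset.mul_sum, hpairs, ← mul_assoc,
    ← Nat.card_eq_fintype_card, mul_comm] at hsum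
  exact Nat.lt_of_mul_lt_mul_right hsum

/-- The abelian Sylow case. -/
theorem complement_of_abelian [Finite G] (hmin : ∀ q : ℕ, q.Prime → q ∣ Nat.card G → p ≤ q)
    (h : ∀ g : G, ¬ p ^ 2 ∣ (Subgroup.centralizer ({g} : Set G)).index) (P : Sylow p G)
    (hab : ∀ a ∈ (P : Subgroup G), ∀ b ∈ (P : Subgroup G), a * b = b * a) : HasNormalPComplement p G := by
  have hp := (Fact.out : p.Prime)
  refine hasNormalPComplement_of_normalizer_le_centralizer P fun n hn => ?_
  by_contra hnc
  obtain ⟨i, j, hi, hj, hij⟩ := exists_parts ({p} : Set ℕ) n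
  have hiP : n ^ i ∈ (P : Subgroup G) := by
    obtain ⟨k, hk⟩ := (isPiEl_singleton hp).1 hi
    have hz : IsPGroup p (Subgroup.zpowers (n ^ i)) := IsPGroup.of_card (n := k) (by rw [Nat.card_zpowers, hk])
    have hsup : IsPGroup p ((P : Subgroup G) ⊔ Subgroup.zpowers (n ^ i) : Subgroup G) :=
      P.isPGroup'.to_sup_of_normal_left' hz ((Subgroup.zpowers_le.2 (pow_mem hn i)))
    rw [← P.3 hsup le_sup_left]
    exact Subgroup.mem_sup_right (Subgroup.mem_zpowers _)
  set y := n ^ j
  have hyN : y ∈ Subgroup.normalizer ((P : Subgroup G) : Set G) := pow_mem hn j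
  have hy : ¬ p ∣ orderOf y := fun hd => hj p hp hd rfl
  have hyc : y ∉ Subgroup.centralizer ((P : Subgroup G) : Set G) := fun hy' => hnc (by
    rw [← hij]; exact mul_mem (Subgroup.mem_centralizer_iff.2 fun a ha => hab a ha _ hiP) hy')
  have hconj : ∀ x ∈ (P : Subgroup G), ∀ k : ℤ, y ^ k * x * (y ^ k)⁻¹ ∈ (P : Subgroup G) := fun x hx k =>
    (Subgroup.mem_normalizer_iff.1 (zpow_mem hyN k) x).1 hx
  set F := Subgroup.centralizer ({y} : Set G)
  have hF : ∀ x : G, x ∈ F ↔ y * x = x * y := fun x => by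
    rw [Subgroup.mem_centralizer_singleton_iff]; exact eq_comm
  -- the displacement map on `P`
  let δ : (P : Subgroup G) →* (P : Subgroup G) :=
    { toFun := fun x => ⟨(x : G)⁻¹ * (y * x * y⁻¹), mul_mem (inv_mem x.2) (by simpa using hconj x x.2 1)⟩
      map_one' := Subtype.ext (by simp)
      map_mul' := fun a b => Subtype.ext (by
        show ((a : G) * b)⁻¹ * (y * (a * b) * y⁻¹) = (a : G)⁻¹ * (y * a * y⁻¹) * ((b : G)⁻¹ * (y * b * y⁻¹))
        have h1 := hab _ (inv_mem b.2) _ (mul_mem (inv_mem a.2) (by simpa using hconj a a.2 1 :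
          y * a * y⁻¹ ∈ (P : Subgroup G)))
        calc _ = (b : G)⁻¹ * ((a : G)⁻¹ * (y * a * y⁻¹)) * (y * b * y⁻¹) := by group
          _ = _ := by rw [h1]; group) }
  have hker : ∀ x : (P : Subgroup G), x ∈ δ.ker ↔ y * x = x * y := fun x => by
    rw [MonoidHom.mem_ker, Subtype.ext_iff]
    show (x : G)⁻¹ * (y * x * y⁻¹) = 1 ↔ _
    rw [inv_mul_eq_one, eq_comm, mul_inv_eq_iff_eq_mul]
  have hindex : p ^ 2 ≤ δ.ker.index := by
    obtain ⟨k, hk⟩ := P.isPGroup'.index δ.ker
    rw [hk]
    refine Nat.pow_le_pow_right hp.pos ?_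
    by_contra hlt
    have hk1 : δ.ker.index ∣ p := by rw [hk]; exact (pow_dvd_pow p (show k ≤ 1 by omega)).trans (by rw [pow_one])
    rw [Subgroup.index_ker] at hk1
    have hfix : ∀ x : (P : Subgroup G), y * (δ x : G) = (δ x : G) * y := by
      intro x
      by_contra hne
      have h1 := exists_many_conj hmin hy hne
      have h2 : Set.range (fun k : ℤ => y ^ k * (δ x : G) * (y ^ k)⁻¹) ⊆
          (fun d : (P : Subgroup G) => (d : G)) '' (δ.range : Set (P : Subgroup G)) := by
        rintro _ ⟨k, rfl⟩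
        refine ⟨δ ⟨_, hconj x x.2 k⟩, ⟨_, rfl⟩, ?_⟩
        show (y ^ k * (x : G) * (y ^ k)⁻¹)⁻¹ * (y * (y ^ k * x * (y ^ k)⁻¹) * y⁻¹) =
          y ^ k * ((x : G)⁻¹ * (y * x * y⁻¹)) * (y ^ k)⁻¹
        group
      have h3 := Set.ncard_le_ncard h2 (Set.toFinite _)
      rw [Set.ncard_image_of_injective (δ.range : Set (P : Subgroup G)) Subtype.val_injective,
        ← Nat.card_coe_set_eq (δ.range : Set (P : Subgroup G)), SetLike.coe_sort_coe] at h3
      have := Nat.le_of_dvd hp.pos hk1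
      omega
    refine hyc (Subgroup.mem_centralizer_iff.2 fun x hx => ((hker ⟨x, hx⟩).1 ?_).symm)
    have h4 : ∀ m : ℕ, y ^ m * x * (y ^ m)⁻¹ = x * (δ ⟨x, hx⟩ : G) ^ m := by
      intro m
      induction m with
      | zero => simp
      | succ m ih =>
        have hd : Commute y ((δ ⟨x, hx⟩ : G) ^ m) := Commute.pow_right (hfix ⟨x, hx⟩) m
        calc y ^ (m + 1) * x * (y ^ (m + 1))⁻¹ = y * (y ^ m * x * (y ^ m)⁻¹) * y⁻¹ := by
              rw [pow_succ']; group
          _ = (y * x * y⁻¹) * (y * (δ ⟨x, hx⟩ : G) ^ m * y⁻¹) := by rw [ih]; group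
          _ = x * (δ ⟨x, hx⟩ : G) * (δ ⟨x, hx⟩ : G) ^ m := by
              rw [hd.eq, mul_inv_cancel_right]
              show y * x * y⁻¹ * _ = x * (x⁻¹ * (y * x * y⁻¹)) * _
              group
          _ = _ := by rw [mul_assoc, ← pow_succ']
    have h5 := h4 (orderOf y)
    rw [pow_orderOf_eq_one, one_mul, inv_one, mul_one, left_eq_mul, ← orderOf_dvd_iff_pow_eq_one] at h5
    obtain ⟨k', hk'⟩ := IsPGroup.iff_orderOf.1 P.isPGroup' (δ ⟨x, hx⟩)
    rw [MonoidHom.mem_ker, ← orderOf_eq_one_iff]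
    exact Nat.eq_one_of_dvd_coprimes ((hp.coprime_iff_not_dvd.2 hy).pow_left k') (hk' ▸ dvd_rfl) (Subgroup.orderOf_coe (δ ⟨x, hx⟩) ▸ h5)
  -- too few classes
  let f := fun x : (P : Subgroup G) => piClass (x : G) (isPiEl_of_mem_sylow P x)
  have hfib := mul_card_range_le f (δ.ker : Set (P : Subgroup G)) p fun x hx => by
    have h1 := exists_many_conj hmin hy (fun e => hx ((hker x).2 e))
    refine h1.trans_le ?_
    rw [← Nat.card_coe_set_eq]
    refine Nat.card_le_card_of_injective (fun w => (⟨⟨w.1, ?_⟩, ?_⟩ : {z // f z = f x})) ?_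
    · obtain ⟨k, hk⟩ := w.2
      rw [← hk]; exact hconj x x.2 k
    · obtain ⟨k, hk⟩ := w.2
      exact Subtype.ext (ConjClasses.mk_eq_mk_iff_isConj.2 (isConj_iff.2 ⟨(y ^ k)⁻¹, by
        show (y ^ k)⁻¹ * (w.1 : G) * ((y ^ k)⁻¹)⁻¹ = x
        rw [← hk]; group⟩))
    · intro a b e
      exact Subtype.ext (congrArg (fun z : {z // f z = f x} => ((z : (P : Subgroup G)) : G)) e)
  rw [(sylowClass_surjective P).range_eq, Nat.card_coe_set_eq, Set.ncard_univ, SetLike.coe_sort_coe] at hfib
  have h2 := card_le_prime_mul_cnt_lt h P (fun e => hyc (by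
    rw [e, Subgroup.mem_centralizer_iff]
    intro a ha
    rw [Subgroup.mem_bot.1 ha]; simp))
  have h3 := δ.ker.card_mul_index
  change (p + 1) * cnt {p} G ≤ _ at hfib
  set a := Nat.card δ.ker
  set k := cnt {p} G
  set N := Nat.card (P : Subgroup G)
  have h4 : a * p ^ 2 ≤ N := h3 ▸ Nat.mul_le_mul_left a hindex
  have h5 : p * (p * a) ≤ N := by
    calc p * (p * a) = a * p ^ 2 := by ring
      _ ≤ N := h4
  nlinarith [Nat.mul_le_mul_left p hfib]

/-- A normal `p`-complement for the smallest prime. -/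
theorem hasNormalPComplement_aux : ∀ (n : ℕ) (G : Type u) [Group G] [Finite G], Nat.card G ≤ n →
    (∀ q : ℕ, q.Prime → q ∣ Nat.card G → p ≤ q) →
    (∀ g : G, ¬ p ^ 2 ∣ (Subgroup.centralizer ({g} : Set G)).index) → HasNormalPComplement p G := by
  intro n
  induction n with
  | zero => intro G _ _ h _ _; exact absurd h (not_le.2 Nat.card_pos)
  | succ n ih =>
    intro G _ _ hcard hmin h
    obtain ⟨P⟩ : Nonempty (Sylow p G) := inferInstance
    by_cases hab : ∀ a ∈ (P : Subgroup G), ∀ b ∈ (P : Subgroup G), a * b = b * a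
    · exact complement_of_abelian hmin h P hab
    push Not at hab
    obtain ⟨a, ha, b, hb, hne⟩ := hab
    have hzc := sylow_commutator_central h P ha hb
    set z := a * b * a⁻¹ * b⁻¹
    have hz1 : z ≠ 1 := fun e => hne (by
      rw [mul_inv_eq_one, mul_inv_eq_iff_eq_mul] at e; exact e)
    haveI hZn : (Subgroup.zpowers z).Normal := ⟨fun u hu g => by
      rw [Subgroup.mem_center_iff.1 (Subgroup.zpowers_le.2 hzc hu) g, mul_inv_cancel_right]; exact hu⟩
    refine complement_of_central_quotient (Subgroup.zpowers z) (Subgroup.zpowers_le.2 hzc) (ih _ ?_ ?_ ?_)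
    · have h1 := Subgroup.card_eq_card_quotient_mul_card_subgroup (Subgroup.zpowers z)
      have h2 : 1 < Nat.card (Subgroup.zpowers z) := by
        rw [Nat.card_zpowers]
        have := orderOf_pos z
        have : orderOf z ≠ 1 := fun e => hz1 (orderOf_eq_one_iff.1 e)
        omega
      have := lt_mul_of_one_lt_right (Nat.card_pos (α := G ⧸ Subgroup.zpowers z)) h2
      omega
    · exact fun q hq hd => hmin q hq (hd.trans ⟨_, Subgroup.card_eq_card_quotient_mul_card_subgroup _⟩)
    · intro g hd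
      obtain ⟨g, rfl⟩ := QuotientGroup.mk'_surjective _ g
      exact h g (hd.trans (index_centralizer_mk_dvd _ g))

/-- If the square of the smallest prime divisor divides no class size, that prime has a normal complement. -/
theorem hasNormalPComplement [Finite G] (hmin : ∀ q : ℕ, q.Prime → q ∣ Nat.card G → p ≤ q)
    (h : ∀ g : G, ¬ p ^ 2 ∣ (Subgroup.centralizer ({g} : Set G)).index) : HasNormalPComplement p G :=
  hasNormalPComplement_aux _ G le_rfl hmin h

end CfsgLib.SquareFreeClass
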