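import Mathlib
import Cfsg.Agent.Lib.SquareFreeClass.PComplement
import Cfsg.Agent.Lib.PSolvable

/-!
A solvable group with trivial `q'`-core in which no class size is divisible by `q ^ 2`
has derived subgroup of order at most `q`.
-/

set_option autoImplicit false

namespace CfsgLib.SquareFreeClass

open Cfsg CfsgLib.ClassPiBound CfsgLib.ClassPiCount
open scoped commutatorElement

universe u

variable {H : Type u} [Group H] {q : ℕ} [Fact q.Prime]

theorem eq_zpowers_of_card [Finite H] {A : Subgroup H} (hA : Nat.card A ∣ q) {d : H} (hd : d ∈ A) (h1 : d ≠ 1) :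
    A = Subgroup.zpowers d := by
  have h2 : orderOf d = q := ((Nat.dvd_prime (Fact.out : q.Prime)).1 ((Subgroup.orderOf_dvd_natCard A hd).trans hA)).resolve_left
    fun e => h1 (orderOf_eq_one_iff.1 e)
  exact (Subgroup.eq_of_le_of_card_ge (Subgroup.zpowers_le.2 hd)
    (by rw [Nat.card_zpowers, h2]; exact Nat.le_of_dvd (Fact.out : q.Prime).pos hA)).symm

theorem eq_of_common [Finite H] {A B : Subgroup H} (hA : Nat.card A ∣ q) (hB : Nat.card B ∣ q) {d : H}
    (hdA : d ∈ A) (hdB : d ∈ B) (h1 : d ≠ 1) : A = B :=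
  (eq_zpowers_of_card hA hdA h1).trans (eq_zpowers_of_card hB hdB h1).symm

/-! ### Groups of prime power order -/

theorem card_commutator_le_of_pGroup [Finite H] (hP : IsPGroup q H)
    (h : ∀ g : H, (Subgroup.centralizer ({g} : Set H)).index ∣ q) : Nat.card (commutator H) ≤ q := by
  have hq := (Fact.out : q.Prime)
  have hcen : ∀ a b : H, a * b * a⁻¹ * b⁻¹ ∈ Subgroup.center H := by
    intro a b
    refine Subgroup.mem_center_iff.2 fun g => ?_
    obtain ⟨T, hT⟩ := (hP.to_subgroup (⊤ : Subgroup H)).exists_le_sylow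
    have h1 := commutator_le_of_relIndex T (S := Subgroup.centralizer ({g} : Set H) ⊓ (T : Subgroup H)) inf_le_right
      (by rw [Subgroup.inf_relIndex_right, show (T : Subgroup H) = ⊤ from top_le_iff.1 hT,
            Subgroup.relIndex_top_right]; exact h g) a (hT trivial) b (hT trivial)
    exact (Subgroup.mem_centralizer_singleton_iff.1 (Subgroup.mem_inf.1 h1).1).symm
  let φ : H → (H →* H) := fun x =>
    { toFun := fun a => x * a * x⁻¹ * a⁻¹
      map_one' := by simp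
      map_mul' := fun a b => by
        have h1 := Subgroup.mem_center_iff.1 (hcen x b) a
        calc x * (a * b) * x⁻¹ * (a * b)⁻¹ = (x * a * x⁻¹ * a⁻¹) * (a * (x * b * x⁻¹ * b⁻¹) * a⁻¹) := by group
          _ = _ := by rw [h1, mul_inv_cancel_right] }
  have hφ : ∀ x a, φ x a = 1 ↔ x * a = a * x := fun x a => by
    show x * a * x⁻¹ * a⁻¹ = 1 ↔ _
    rw [mul_inv_eq_one, mul_inv_eq_iff_eq_mul]
  have hrange : ∀ x, Nat.card (φ x).range ∣ q := by
    intro x
    rw [← Subgroup.index_ker, show (φ x).ker = Subgroup.centralizer ({x} : Set H) from ?_]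
    · exact h x
    ext a
    rw [MonoidHom.mem_ker, hφ, Subgroup.mem_centralizer_singleton_iff, eq_comm]
  by_cases hab : ∀ a b : H, a * b = b * a
  · have : commutator H = ⊥ := by
      rw [commutator_def, eq_bot_iff, Subgroup.commutator_le]
      intro a _ b _
      rw [Subgroup.mem_bot, commutatorElement_def, hab a b, mul_inv_cancel_right, mul_inv_cancel]
    rw [this, Subgroup.card_bot]
    exact hq.pos
  push Not at hab
  obtain ⟨x0, a0, hne⟩ := hab
  refine (Nat.le_of_dvd hq.pos (hrange x0)).trans' (Subgroup.card_le_of_le ?_)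
  rw [commutator_def, Subgroup.commutator_le]
  intro u _ v _
  rw [commutatorElement_def]
  by_cases huv : u * v = v * u
  · rw [huv, mul_inv_cancel_right, mul_inv_cancel]; exact one_mem _
  obtain ⟨x, hxu, hx0⟩ : ∃ x, u * x ≠ x * u ∧ x0 * x ≠ x * x0 := by
    by_cases h1 : x0 * v = v * x0
    · by_cases h2 : u * a0 = a0 * u
      · refine ⟨v * a0, fun e => huv ?_, fun e => hne ?_⟩
        · rw [← mul_assoc, mul_assoc v a0 u, ← h2, ← mul_assoc] at e
          exact mul_right_cancel e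
        · rw [← mul_assoc, h1, mul_assoc, mul_assoc] at e
          exact mul_left_cancel e
      · exact ⟨a0, h2, hne⟩
    · exact ⟨v, huv, h1⟩
  have key : ∀ w, w * x ≠ x * w → (φ w).range = (φ x).range := by
    intro w hw
    refine eq_of_common (hrange w) (hrange x) ⟨x, rfl⟩ ?_ fun e => hw ((hφ w x).1 e)
    refine ⟨w⁻¹, ?_⟩
    rw [map_inv]
    show (x * w * x⁻¹ * w⁻¹)⁻¹ = w * x * w⁻¹ * x⁻¹
    group
  rw [key x0 hx0, ← key u hxu]
  exact ⟨v, rfl⟩

/-! ### Elements of order prime to `q` -/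

/-- The displacement of `u` by `g`. -/
abbrev disp (g u : H) : H := u⁻¹ * (g * u * g⁻¹)

theorem ncard_disp_le [Finite H] (Q : Subgroup H) (g : H) :
    (Set.range fun u : Q => disp g (u : H)).ncard ≤ (Subgroup.centralizer ({g} : Set H)).relIndex Q := by
  rw [← Nat.card_coe_set_eq, Subgroup.relIndex, Subgroup.index]
  refine Nat.card_le_card_of_surjective (fun c => Quotient.liftOn' c
    (fun u : Q => (⟨disp g ((u⁻¹ : Q) : H), ⟨u⁻¹, rfl⟩⟩ : Set.range fun u : Q => disp g (u : H))) ?_) ?_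
  · intro a b hab
    rw [QuotientGroup.leftRel_apply, Subgroup.mem_subgroupOf, Subgroup.mem_centralizer_singleton_iff] at hab
    refine Subtype.ext ?_
    simp only [disp, InvMemClass.coe_inv, Subgroup.coe_mul, inv_inv] at hab ⊢
    calc (a : H) * (g * (a : H)⁻¹ * g⁻¹) = (a : H) * (g * ((a : H)⁻¹ * b)) * (b : H)⁻¹ * g⁻¹ := by group
      _ = (a : H) * (((a : H)⁻¹ * b) * g) * (b : H)⁻¹ * g⁻¹ := by rw [hab]
      _ = _ := by group
  · rintro ⟨_, u, rfl⟩
    refine ⟨Quotient.mk'' u⁻¹, ?_⟩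
    simp only [Quotient.liftOn'_mk'']
    exact Subtype.ext (by rw [inv_inv])

/-- A displacement fixed by an element of order prime to `q` is trivial. -/
theorem disp_eq_one_of_fixed {Q : Subgroup H} (hQ : IsPGroup q Q) {x u : H} (hx : ¬ q ∣ orderOf x)
    (hmem : disp x u ∈ Q) (hfix : x * disp x u = disp x u * x) : disp x u = 1 := by
  have h4 : ∀ m : ℕ, x ^ m * u * (x ^ m)⁻¹ = u * disp x u ^ m := by
    intro m
    induction m with
    | zero => simp
    | succ m ih =>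
      have hd : Commute x (disp x u ^ m) := Commute.pow_right hfix m
      calc x ^ (m + 1) * u * (x ^ (m + 1))⁻¹ = x * (x ^ m * u * (x ^ m)⁻¹) * x⁻¹ := by rw [pow_succ']; group
        _ = (x * u * x⁻¹) * (x * disp x u ^ m * x⁻¹) := by rw [ih]; group
        _ = u * disp x u * disp x u ^ m := by
            rw [hd.eq, mul_inv_cancel_right, show u * disp x u = x * u * x⁻¹ from mul_inv_cancel_left u _]
        _ = _ := by rw [mul_assoc, ← pow_succ']
  have h5 := h4 (orderOf x)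
  rw [pow_orderOf_eq_one, one_mul, inv_one, mul_one, left_eq_mul, ← orderOf_dvd_iff_pow_eq_one] at h5
  obtain ⟨k, hk⟩ := IsPGroup.iff_orderOf.1 hQ ⟨_, hmem⟩
  rw [Subgroup.orderOf_mk] at hk
  rw [← orderOf_eq_one_iff]
  exact Nat.eq_one_of_dvd_coprimes (((Fact.out : q.Prime).coprime_iff_not_dvd.2 hx).pow_left k) (dvd_of_eq hk) h5

variable (q) in
/-- A central line of `Q` into which `x` displaces `Q`, with fixed point only the identity. -/
structure IsAxis (Q : Subgroup H) (x : H) (L : Subgroup H) : Prop where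
  le : L ≤ Q
  card : Nat.card L = q
  central : ∀ l ∈ L, ∀ u ∈ Q, Commute l u
  disp_mem : ∀ u ∈ Q, disp x u ∈ L
  faithful : ∀ l ∈ L, x * l = l * x → l = 1

theorem exists_axis [Finite H] {Q : Subgroup H} [Q.Normal] (hQ : IsPGroup q Q) {x : H} (hx : ¬ q ∣ orderOf x)
    (hidx : (Subgroup.centralizer ({x} : Set H)).relIndex Q ∣ q) {v : H} (hv : v ∈ Q) (hxv : x * v ≠ v * x) :
    ∃ L : Subgroup H, IsAxis q Q x L := by
  have hq := (Fact.out : q.Prime)
  set K := (Subgroup.centralizer ({x} : Set H)).subgroupOf Q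
  have hK : ∀ u : Q, u ∈ K ↔ x * u = u * x := fun u => by
    rw [Subgroup.mem_subgroupOf, Subgroup.mem_centralizer_singleton_iff, eq_comm]
  have hi : K.index = q := ((Nat.dvd_prime hq).1 hidx).resolve_left fun e => hxv ((hK ⟨v, hv⟩).1 (by
    rw [Subgroup.index_eq_one.1 (show K.index = 1 from e)]; trivial))
  haveI : K.Normal := by
    refine Subgroup.normal_of_index_eq_minFac_card ?_
    obtain ⟨i, hiQ⟩ := IsPGroup.iff_card.1 hQ
    have hi0 : i ≠ 0 := fun e => by
      have := hi ▸ Subgroup.index_dvd_card K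
      rw [hiQ, e, pow_zero] at this
      exact hq.ne_one (Nat.dvd_one.1 this)
    rw [hi, hiQ, Nat.pow_minFac hi0, hq.minFac_eq]
  have hconj : ∀ u ∈ Q, x * u * x⁻¹ ∈ Q := fun u hu => Subgroup.Normal.conj_mem inferInstance u hu x
  set d := disp x v with hd
  have hdQ : d ∈ Q := mul_mem (inv_mem hv) (hconj v hv)
  have hdx : x * d ≠ d * x := fun e => hxv (by
    have h1 := disp_eq_one_of_fixed hQ hx hdQ e
    rw [← hd] at h1
    have h2 : x * v * x⁻¹ = v := by
      have : v⁻¹ * (x * v * x⁻¹) = 1 := h1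
      exact (inv_mul_eq_one.1 this).symm
    exact mul_inv_eq_iff_eq_mul.1 h2)
  have hcommK : ∀ k ∈ Q, x * k = k * x → Commute d k := by
    intro k hk hxk
    have h1 : (⟨v * k * v⁻¹, mul_mem (mul_mem hv hk) (inv_mem hv)⟩ : Q) ∈ K :=
      (inferInstance : K.Normal).conj_mem ⟨k, hk⟩ ((hK _).2 hxk) ⟨v, hv⟩
    have h2 : x * (v * k * v⁻¹) * x⁻¹ = v * k * v⁻¹ := mul_inv_eq_iff_eq_mul.2 ((hK _).1 h1)
    have h3 : x * k * x⁻¹ = k := mul_inv_eq_iff_eq_mul.2 hxk
    refine mul_inv_eq_iff_eq_mul.1 ?_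
    calc d * k * d⁻¹ = v⁻¹ * ((x * v * x⁻¹) * k * (x * v * x⁻¹)⁻¹) * v := by rw [hd, disp]; group
      _ = v⁻¹ * (x * v * x⁻¹ * (x * k * x⁻¹) * (x * v * x⁻¹)⁻¹) * v := by rw [h3]
      _ = v⁻¹ * (x * (v * k * v⁻¹) * x⁻¹) * v := by group
      _ = k := by rw [h2]; group
  have hdec : ∀ u ∈ Q, ∃ i : ℤ, x * (u * (d ^ i)⁻¹) = u * (d ^ i)⁻¹ * x := by
    intro u hu
    have hgen : Subgroup.zpowers ((⟨d, hdQ⟩ : Q) : Q ⧸ K) = ⊤ :=
      zpowers_eq_top_of_prime_card (p := q) (by rw [← Subgroup.index_eq_card]; exact hi)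
        fun e => hdx ((hK _).1 ((QuotientGroup.eq_one_iff _).1 e))
    obtain ⟨i, hi'⟩ := hgen.ge (Subgroup.mem_top ((⟨u, hu⟩ : Q) : Q ⧸ K))
    refine ⟨i, (hK (⟨u, hu⟩ * (⟨d, hdQ⟩ ^ i)⁻¹)).1 ((QuotientGroup.eq_one_iff _).1 ?_)⟩
    rw [QuotientGroup.mk_mul, QuotientGroup.mk_inv, QuotientGroup.mk_zpow]
    exact mul_inv_eq_one.2 hi'.symm
  have hdc : ∀ u ∈ Q, Commute d u := by
    intro u hu
    obtain ⟨i, hi'⟩ := hdec u hu
    have h := (hcommK _ (mul_mem hu (inv_mem (zpow_mem hdQ i))) hi').mul_right (Commute.self_zpow d i)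
    rwa [inv_mul_cancel_right] at h
  set e := x * d * x⁻¹ with he
  have heQ : e ∈ Q := hconj d hdQ
  have hec : ∀ u ∈ Q, Commute e u := by
    intro u hu
    have h := (hdc _ (Subgroup.Normal.conj_mem inferInstance u hu x⁻¹)).map (MulAut.conj x).toMonoidHom
    simpa [he, mul_assoc] using h
  set d' := disp x d with hd'
  have hd'c : ∀ u ∈ Q, Commute d' u := fun u hu => (hdc u hu).inv_left.mul_left (hec u hu)
  have hd'1 : d' ≠ 1 := fun h1 => hdx (mul_inv_eq_iff_eq_mul.1 (inv_mul_eq_one.1 h1).symm)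
  have hd'q : d' ^ q = 1 := by
    have h1 : (⟨d, hdQ⟩ : Q) ^ K.index ∈ K := Subgroup.pow_index_mem K _
    rw [hi] at h1
    have h2 : x * d ^ q * x⁻¹ = d ^ q := mul_inv_eq_iff_eq_mul.2 (by simpa using (hK _).1 h1)
    show (d⁻¹ * e) ^ q = 1
    rw [(hdc e heQ).inv_left.mul_pow, inv_pow, inv_mul_eq_one, he, conj_pow, h2]
  have hd'Q : d' ∈ Q := mul_mem (inv_mem hdQ) heQ
  have hord : orderOf d' = q := orderOf_eq_prime hd'q hd'1
  refine ⟨Subgroup.zpowers d', Subgroup.zpowers_le.2 hd'Q, by rw [Nat.card_zpowers, hord], ?_, ?_, ?_⟩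
  · rintro _ ⟨i, rfl⟩ u hu
    exact (hd'c u hu).zpow_left i
  · intro u hu
    obtain ⟨i, hi'⟩ := hdec u hu
    refine ⟨i, ?_⟩
    have h1 : x * (u * (d ^ i)⁻¹) * x⁻¹ = u * (d ^ i)⁻¹ := mul_inv_eq_iff_eq_mul.2 hi'
    have h2 : x * d ^ i * x⁻¹ = e ^ i := by rw [he, conj_zpow]
    show d' ^ i = u⁻¹ * (x * u * x⁻¹)
    rw [show x * u * x⁻¹ = x * (u * (d ^ i)⁻¹) * x⁻¹ * (x * d ^ i * x⁻¹) by group, h1, h2,
      show d' = d⁻¹ * e from rfl, (hdc e heQ).inv_left.mul_zpow, inv_zpow]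
    group
  · intro l hl hxl
    by_contra hl1
    have h2 := eq_zpowers_of_card (q := q) (dvd_of_eq (by rw [Nat.card_zpowers, hord])) hl hl1
    obtain ⟨j, hj⟩ := h2 ▸ Subgroup.mem_zpowers d'
    have h3 : x * d' = d' * x := by
      rw [← hj]; exact Commute.zpow_right hxl j
    exact hd'1 (disp_eq_one_of_fixed hQ hx hd'Q h3)

namespace IsAxis

variable [Finite H] {Q : Subgroup H} {x y : H} {L M : Subgroup H}

theorem disp_mul (hL : IsAxis q Q x L) {u v : H} (hu : u ∈ Q) (hv : v ∈ Q) :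
    disp x (u * v) = disp x u * disp x v := by
  have h := hL.central _ (hL.disp_mem u hu) v⁻¹ (inv_mem hv)
  calc disp x (u * v) = v⁻¹ * disp x u * (x * v * x⁻¹) := by simp only [disp]; group
    _ = disp x u * v⁻¹ * (x * v * x⁻¹) := by rw [h.eq]
    _ = _ := by simp only [disp]; group

/-- The displacement as a homomorphism. -/
def dispHom (hL : IsAxis q Q x L) : Q →* H where
  toFun u := disp x (u : H)
  map_one' := by simp [disp]
  map_mul' u v := hL.disp_mul u.2 v.2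

theorem disp_zpow (hL : IsAxis q Q x L) {u : H} (hu : u ∈ Q) (i : ℤ) : disp x (u ^ i) = disp x u ^ i :=
  map_zpow hL.dispHom ⟨u, hu⟩ i

theorem exists_ne_one (hL : IsAxis q Q x L) : ∃ l ∈ L, l ≠ 1 := by
  by_contra h
  push Not at h
  have h1 := hL.card
  rw [show L = ⊥ from eq_bot_iff.2 fun l hl => Subgroup.mem_bot.2 (h l hl), Subgroup.card_bot] at h1
  exact (Fact.out : q.Prime).ne_one h1.symm

theorem disp_ne_one (hL : IsAxis q Q x L) {l : H} (hl : l ∈ L) (h1 : l ≠ 1) : disp x l ≠ 1 := fun e =>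
  h1 (hL.faithful l hl (mul_inv_eq_iff_eq_mul.1 (inv_mul_eq_one.1 e).symm))

theorem decomp (hL : IsAxis q Q x L) {l : H} (hl : l ∈ L) (h1 : l ≠ 1) {u : H} (hu : u ∈ Q) :
    ∃ i : ℤ, x * (u * (l ^ i)⁻¹) = u * (l ^ i)⁻¹ * x := by
  have hlQ := hL.le hl
  have h2 := eq_zpowers_of_card (q := q) (dvd_of_eq hL.card) (hL.disp_mem l hlQ) (hL.disp_ne_one hl h1)
  obtain ⟨i, hi⟩ := h2.le (hL.disp_mem u hu)
  refine ⟨i, mul_inv_eq_iff_eq_mul.1 (inv_mul_eq_one.1 ?_).symm⟩
  show disp x (u * (l ^ i)⁻¹) = 1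
  rw [hL.disp_mul hu (inv_mem (zpow_mem hlQ i)), ← zpow_neg, hL.disp_zpow hlQ, zpow_neg, mul_inv_eq_one]
  exact hi.symm

theorem conj_mem_iff (hL : IsAxis q Q x L) (l : H) : x * l * x⁻¹ ∈ L ↔ l ∈ L := by
  have hle : L.map (MulAut.conj x).toMonoidHom ≤ L := by
    rintro _ ⟨k, hk, rfl⟩
    show x * k * x⁻¹ ∈ L
    rw [show x * k * x⁻¹ = k * disp x k by simp [disp]]
    exact mul_mem hk (hL.disp_mem k (hL.le hk))
  have heq := Subgroup.eq_of_le_of_card_ge hle
    (Subgroup.card_map_of_injective (MulAut.conj x).injective).ge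
  constructor
  · intro h
    rw [← heq] at h
    obtain ⟨k, hk, hkl⟩ := h
    have : k = l := (MulAut.conj x).injective hkl
    exact this ▸ hk
  · exact fun h => heq ▸ ⟨l, h, rfl⟩

theorem card_fixed_mul (hL : IsAxis q Q x L) (h : (Subgroup.centralizer ({x} : Set H)).relIndex Q ∣ q) :
    Nat.card ↥(Subgroup.centralizer ({x} : Set H) ⊓ Q) * q = Nat.card Q := by
  have hne : (Subgroup.centralizer ({x} : Set H)).relIndex Q ≠ 1 := fun e => by
    obtain ⟨l, hl, hl1⟩ := hL.exists_ne_one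
    exact hl1 (hL.faithful l hl
      (Subgroup.mem_centralizer_singleton_iff.1 (Subgroup.relIndex_eq_one.1 e (hL.le hl))).symm)
  have h1 := Subgroup.card_mul_index ((Subgroup.centralizer ({x} : Set H) ⊓ Q).subgroupOf Q)
  rwa [Nat.card_congr (Subgroup.subgroupOfEquivOfLe inf_le_right).toEquiv, ← Subgroup.relIndex,
    Subgroup.inf_relIndex_right, ((Nat.dvd_prime (Fact.out : q.Prime)).1 h).resolve_left hne] at h1

/-- Different fixed subgroups force equal axes. -/
theorem eq_of_fixed_ne (hL : IsAxis q Q x L) (hM : IsAxis q Q y M)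
    (hx : (Subgroup.centralizer ({x} : Set H)).relIndex Q ∣ q)
    (hy : (Subgroup.centralizer ({y} : Set H)).relIndex Q ∣ q)
    (hxy : (Subgroup.centralizer ({x * y} : Set H)).relIndex Q ∣ q)
    (hne : Subgroup.centralizer ({x} : Set H) ⊓ Q ≠ Subgroup.centralizer ({y} : Set H) ⊓ Q) : L = M := by
  have hq := (Fact.out : q.Prime)
  have hc := (hL.card_fixed_mul hx).trans (hM.card_fixed_mul hy).symm
  have hcard := Nat.eq_of_mul_eq_mul_right hq.pos hc
  obtain ⟨u, hu, hux⟩ := SetLike.not_le_iff_exists.1 fun h => hne (Subgroup.eq_of_le_of_card_ge h hcard.le).symm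
  obtain ⟨v, hv, hvy⟩ := SetLike.not_le_iff_exists.1 fun h => hne (Subgroup.eq_of_le_of_card_ge h hcard.ge)
  rw [Subgroup.mem_inf, Subgroup.mem_centralizer_singleton_iff] at hu hv
  have hux' : disp x u ≠ 1 := fun e => hux (Subgroup.mem_inf.2
    ⟨Subgroup.mem_centralizer_singleton_iff.2 (mul_inv_eq_iff_eq_mul.1 (inv_mul_eq_one.1 e).symm).symm, hu.2⟩)
  have hvy' : disp y v ≠ 1 := fun e => hvy (Subgroup.mem_inf.2
    ⟨Subgroup.mem_centralizer_singleton_iff.2 (mul_inv_eq_iff_eq_mul.1 (inv_mul_eq_one.1 e).symm).symm, hv.2⟩)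
  set R := Set.range fun w : Q => disp (x * y) (w : H)
  have hsub : (L : Set H) ⊆ R := by
    intro l hl
    obtain ⟨i, rfl⟩ := (eq_zpowers_of_card (q := q) (dvd_of_eq hL.card) (hL.disp_mem u hu.2) hux').le hl
    refine ⟨⟨u ^ i, zpow_mem hu.2 i⟩, ?_⟩
    have hyu : y * u ^ i * y⁻¹ = u ^ i := mul_inv_eq_iff_eq_mul.2 (Commute.zpow_right (hu.1.symm : Commute y u) i)
    show (u ^ i)⁻¹ * (x * y * u ^ i * (x * y)⁻¹) = disp x u ^ i
    rw [← hL.disp_zpow hu.2]
    show _ = (u ^ i)⁻¹ * (x * u ^ i * x⁻¹)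
    rw [show x * y * u ^ i * (x * y)⁻¹ = x * (y * u ^ i * y⁻¹) * x⁻¹ by group, hyu]
  have heq : (L : Set H) = R := Set.eq_of_subset_of_ncard_le hsub (by
    rw [← Nat.card_coe_set_eq (L : Set H), SetLike.coe_sort_coe, hL.card]
    exact (ncard_disp_le Q (x * y)).trans (Nat.le_of_dvd hq.pos hxy)) (Set.toFinite _)
  have h2 : disp (x * y) v ∈ (L : Set H) := heq ▸ ⟨⟨v, hv.2⟩, rfl⟩
  have hxv : x⁻¹ * v * x = v := by
    rw [mul_assoc, hv.1, inv_mul_cancel_left]
  have h3 : disp (x * y) v = x * disp y v * x⁻¹ := by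
    calc disp (x * y) v = x * ((x⁻¹ * v * x)⁻¹ * (y * v * y⁻¹)) * x⁻¹ := by simp only [disp]; group
      _ = _ := by rw [hxv]
  rw [h3] at h2
  exact eq_of_common (dvd_of_eq hL.card) (dvd_of_eq hM.card) ((hL.conj_mem_iff _).1 h2) (hM.disp_mem v hv.2) hvy'

end IsAxis

/-! ### The main bound -/

variable (q) in
/-- An element of order prime to `q` other than the identity. -/
abbrev IsPrimeEl (x : H) : Prop := ¬ q ∣ orderOf x ∧ x ≠ 1

theorem qElement_or_exists [Finite H] (N : Subgroup H) :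
    IsPGroup q N ∨ ∃ y ∈ N, IsPrimeEl q y := by
  by_cases h : ∃ y ∈ N, IsPrimeEl q y
  · exact Or.inr h
  refine Or.inl (IsPGroup.iff_orderOf.2 fun g => ?_)
  obtain ⟨i, j, hi, hj, hij⟩ := exists_parts ({q} : Set ℕ) (g : H)
  obtain ⟨k, hk⟩ := (isPiEl_singleton (Fact.out : q.Prime)).1 hi
  have hone : (g : H) ^ j = 1 := by
    by_contra hne
    exact h ⟨_, pow_mem g.2 j, fun hd => hj q Fact.out hd rfl, hne⟩
  rw [hone, mul_one] at hij
  exact ⟨k, by rw [← Subgroup.orderOf_coe, ← hij, hk]⟩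

theorem axis_unique [Finite H] {Q : Subgroup H} [Q.Normal]
    (hax : ∀ x : H, IsPrimeEl q x → ∃ L, IsAxis q Q x L)
    (hidx : ∀ g : H, (Subgroup.centralizer ({g} : Set H)).relIndex Q ∣ q)
    (hmax : ∀ N : Subgroup H, N.Normal → IsPGroup q N → N ≤ Q)
    {x y : H} (hx : IsPrimeEl q x) {L M : Subgroup H} (hL : IsAxis q Q x L) (hM : IsAxis q Q y M) : L = M := by
  by_contra hne
  set K := Subgroup.centralizer ({x} : Set H) ⊓ Q with hKdef
  have hsame : ∀ z : H, IsPrimeEl q z → ∀ u ∈ Q, (u ∈ K ↔ z * u = u * z) := by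
    intro z hz u hu
    obtain ⟨N, hN⟩ := hax z hz
    have hK : Subgroup.centralizer ({x} : Set H) ⊓ Q = Subgroup.centralizer ({z} : Set H) ⊓ Q := by
      by_contra hc
      have h1 := hL.eq_of_fixed_ne hN (hidx x) (hidx z) (hidx _) hc
      have h2 : Subgroup.centralizer ({y} : Set H) ⊓ Q = Subgroup.centralizer ({z} : Set H) ⊓ Q := by
        by_contra hc'
        exact hne (h1.trans (hM.eq_of_fixed_ne hN (hidx y) (hidx z) (hidx _) hc').symm)
      refine hc (h2 ▸ ?_)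
      by_contra hc''
      exact hne (hL.eq_of_fixed_ne hM (hidx x) (hidx y) (hidx _) hc'')
    rw [hKdef, hK, Subgroup.mem_inf, Subgroup.mem_centralizer_singleton_iff]
    exact ⟨fun h => h.1.symm, fun h => ⟨h.symm, hu⟩⟩
  have hyK : ∀ u ∈ Q, (u ∈ K ↔ y * u = u * y) := by
    intro u hu
    have hK : Subgroup.centralizer ({x} : Set H) ⊓ Q = Subgroup.centralizer ({y} : Set H) ⊓ Q := by
      by_contra hc
      exact hne (hL.eq_of_fixed_ne hM (hidx x) (hidx y) (hidx _) hc)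
    rw [hKdef, hK, Subgroup.mem_inf, Subgroup.mem_centralizer_singleton_iff]
    exact ⟨fun h => h.1.symm, fun h => ⟨h.symm, hu⟩⟩
  have hKQ : ∀ k ∈ K, k ∈ Q := fun k hk => (Subgroup.mem_inf.1 hk).2
  haveI hKn : K.Normal := ⟨fun k hk g => by
    have hkQ := hKQ k hk
    have hz : IsPrimeEl q (g⁻¹ * x * g) := by
      refine ⟨?_, fun e => hx.2 ?_⟩
      · rw [show g⁻¹ * x * g = MulAut.conj g⁻¹ x by simp [MulAut.conj_apply], MulEquiv.orderOf_eq]
        exact hx.1
      · calc x = g * (g⁻¹ * x * g) * g⁻¹ := by group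
          _ = 1 := by rw [e]; group
    have h1 := (hsame _ hz k hkQ).1 hk
    refine (hsame x hx _ (Subgroup.Normal.conj_mem inferInstance k hkQ g)).2 ?_
    calc x * (g * k * g⁻¹) = g * ((g⁻¹ * x * g) * k) * g⁻¹ := by group
      _ = g * (k * (g⁻¹ * x * g)) * g⁻¹ := by rw [h1]
      _ = _ := by group⟩
  -- the stabiliser of the chain
  let A : Subgroup H :=
    { carrier := {a | (∀ k ∈ K, Commute a k) ∧ ∀ u ∈ Q, disp a u ∈ K}
      one_mem' := ⟨fun k _ => Commute.one_left k, fun u _ => by simp [disp]⟩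
      mul_mem' := fun {a b} ha hb => ⟨fun k hk => (ha.1 k hk).mul_left (hb.1 k hk), fun u hu => by
        have h1 := hKn.conj_mem _ (hb.2 u hu) a
        have h2 := mul_mem (ha.2 u hu) h1
        have h3 : disp a u * (a * disp b u * a⁻¹) = disp (a * b) u := by simp only [disp]; group
        rwa [h3] at h2⟩
      inv_mem' := fun {a} ha => ⟨fun k hk => (ha.1 k hk).inv_left, fun u hu => by
        have h1 := hKn.conj_mem _ (inv_mem (ha.2 u hu)) a⁻¹
        have h3 : a⁻¹ * (disp a u)⁻¹ * a⁻¹⁻¹ = disp a⁻¹ u := by simp only [disp]; group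
        rwa [h3] at h1⟩ }
  have hAn : A.Normal := ⟨fun a ha g => ⟨fun k hk => by
      have h := (ha.1 _ (hKn.conj_mem k hk g⁻¹)).map (MulAut.conj g).toMonoidHom
      simpa [mul_assoc] using h,
    fun u hu => by
      have h1 := hKn.conj_mem _ (ha.2 (g⁻¹ * u * g⁻¹⁻¹) (Subgroup.Normal.conj_mem inferInstance u hu g⁻¹)) g
      have h3 : g * disp a (g⁻¹ * u * g⁻¹⁻¹) * g⁻¹ = disp (g * a * g⁻¹) u := by simp only [disp]; group
      rwa [h3] at h1⟩⟩
  have hA : IsPGroup q A := by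
    refine (qElement_or_exists A).resolve_right ?_
    rintro ⟨a, ha, haP⟩
    obtain ⟨N, hN⟩ := hax a haP
    obtain ⟨l, hl, hl1⟩ := hN.exists_ne_one
    refine hN.disp_ne_one hl hl1 (hN.faithful _ (hN.disp_mem l (hN.le hl)) ?_)
    exact (ha.1 _ (ha.2 l (hN.le hl))).eq
  have hAQ : A ≤ Q := hmax A hAn hA
  -- the commutator of `x` and `y`
  obtain ⟨t, ht, ht1⟩ := hM.exists_ne_one
  have htQ := hM.le ht
  have hxt : x * t * x⁻¹ ∈ Q := Subgroup.Normal.conj_mem inferInstance t htQ x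
  obtain ⟨a, ha⟩ := hM.decomp ht ht1 hxt
  set k₁ := x * t * x⁻¹ * (t ^ a)⁻¹ with hk₁
  have hk₁Q : k₁ ∈ Q := mul_mem hxt (inv_mem (zpow_mem htQ a))
  have hk₁K : k₁ ∈ K := (hyK _ hk₁Q).2 ha
  obtain ⟨b, hb⟩ : ∃ b : ℤ, t ^ b = y * t * y⁻¹ :=
    (eq_zpowers_of_card (q := q) (dvd_of_eq hM.card) ht ht1).le ((hM.conj_mem_iff t).2 ht)
  have hkt : Commute k₁ (t ^ a) := ((hM.central t ht k₁ hk₁Q).symm).zpow_right a
  have hxte : x * t * x⁻¹ = k₁ * t ^ a := by rw [hk₁, inv_mul_cancel_right]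
  have hyk : y * k₁ * y⁻¹ = k₁ := mul_inv_eq_iff_eq_mul.2 ((hyK _ hk₁Q).1 hk₁K)
  have hyx : (y * x) * t * (y * x)⁻¹ = k₁ * (t ^ b) ^ a := by
    calc (y * x) * t * (y * x)⁻¹ = y * (x * t * x⁻¹) * y⁻¹ := by group
      _ = (y * k₁ * y⁻¹) * (y * t ^ a * y⁻¹) := by rw [hxte]; group
      _ = _ := by rw [hyk, ← conj_zpow, hb]
  have hxy : (x * y) * t * (x * y)⁻¹ = k₁ ^ b * (t ^ a) ^ b := by
    calc (x * y) * t * (x * y)⁻¹ = x * (y * t * y⁻¹) * x⁻¹ := by group
      _ = _ := by rw [← hb, ← conj_zpow, hxte, hkt.mul_zpow]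
  have hab : (t ^ a) ^ b = (t ^ b) ^ a := by rw [← zpow_mul, ← zpow_mul, mul_comm]
  set s := (y * x) * t * (y * x)⁻¹ with hs
  have hsQ : s ∈ Q := Subgroup.Normal.conj_mem inferInstance t htQ _
  set w := x * y * x⁻¹ * y⁻¹ with hw
  have hws : w * s * w⁻¹ = k₁ ^ b * (t ^ b) ^ a := by
    rw [hw, hs, show x * y * x⁻¹ * y⁻¹ * (y * x * t * (y * x)⁻¹) * (x * y * x⁻¹ * y⁻¹)⁻¹ =
      (x * y) * t * (x * y)⁻¹ by group, hxy, hab]
  have hwA : w ∈ A := by
    have hxK : ∀ k ∈ K, Commute x k := fun k hk => (hsame x hx k (hKQ k hk)).1 hk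
    have hyK' : ∀ k ∈ K, Commute y k := fun k hk => (hyK k (hKQ k hk)).1 hk
    have hwK : ∀ k ∈ K, Commute w k := fun k hk =>
      (((hxK k hk).mul_left (hyK' k hk)).mul_left (hxK k hk).inv_left).mul_left (hyK' k hk).inv_left
    refine ⟨hwK, fun u hu => ?_⟩
    have hs1 : disp y s ≠ 1 := by
      intro e
      have h1 := (hyK _ hsQ).2 (mul_inv_eq_iff_eq_mul.1 (inv_mul_eq_one.1 e).symm)
      have h2 := hKn.conj_mem _ h1 (y * x)⁻¹
      rw [hs, show (y * x)⁻¹ * (y * x * t * (y * x)⁻¹) * (y * x)⁻¹⁻¹ = t by group] at h2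
      exact ht1 (hM.faithful t ht ((hyK t htQ).1 h2))
    obtain ⟨i, hi⟩ := (eq_zpowers_of_card (q := q) (dvd_of_eq hM.card) (hM.disp_mem s hsQ) hs1).le (hM.disp_mem u hu)
    set k := u * (s ^ i)⁻¹ with hk
    have hkK : k ∈ K := by
      refine (hyK _ (mul_mem hu (inv_mem (zpow_mem hsQ i)))).2 (mul_inv_eq_iff_eq_mul.1 (inv_mul_eq_one.1 ?_).symm)
      show disp y (u * (s ^ i)⁻¹) = 1
      rw [hM.disp_mul hu (inv_mem (zpow_mem hsQ i)), ← zpow_neg, hM.disp_zpow hsQ, zpow_neg, mul_inv_eq_one]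
      exact hi.symm
    have hu' : u = k * s ^ i := by rw [hk, inv_mul_cancel_right]
    have htc : ∀ j : ℤ, ∀ r ∈ Q, Commute r ((t ^ b) ^ j) := fun j r hr =>
      (((hM.central t ht r hr).zpow_left b).zpow_left j).symm
    have h1 : disp w u = (k₁ ^ i)⁻¹ * k₁ ^ (b * i) := by
      have h2 : w * u * w⁻¹ = k * (k₁ ^ (b * i) * ((t ^ b) ^ a) ^ i) := by
        calc w * u * w⁻¹ = (w * k * w⁻¹) * (w * s ^ i * w⁻¹) := by rw [hu']; group
          _ = _ := by
            rw [(hwK k hkK).eq, mul_inv_cancel_right, ← conj_zpow, hws,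
              (htc a _ (zpow_mem hk₁Q b)).mul_zpow, ← zpow_mul]
      show u⁻¹ * (w * u * w⁻¹) = _
      rw [h2, hu', hyx, (htc a k₁ hk₁Q).mul_zpow]
      have h3 := (htc (a * i) _ (mul_mem (inv_mem (zpow_mem hk₁Q i)) (zpow_mem hk₁Q (b * i)))).eq
      rw [zpow_mul (t ^ b) a i] at h3
      calc (k * (k₁ ^ i * ((t ^ b) ^ a) ^ i))⁻¹ * (k * (k₁ ^ (b * i) * ((t ^ b) ^ a) ^ i))
          = (((t ^ b) ^ a) ^ i)⁻¹ * ((k₁ ^ i)⁻¹ * k₁ ^ (b * i) * ((t ^ b) ^ a) ^ i) := by group
        _ = _ := by rw [h3, inv_mul_cancel_left]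
    rw [h1]
    exact mul_mem (inv_mem (zpow_mem hk₁K i)) (zpow_mem hk₁K _)
  have hwt : w * s * w⁻¹ = s := by
    refine mul_inv_eq_iff_eq_mul.2 ?_
    have hwQ := hAQ hwA
    have h := (hM.central t ht _ (Subgroup.Normal.conj_mem inferInstance w hwQ (y * x)⁻¹)).map
      (MulAut.conj (y * x)).toMonoidHom
    have h' : Commute s w := by simpa [hs, mul_assoc] using h
    exact h'.eq.symm
  rw [hws, hyx, mul_left_inj] at hwt
  have htq : t ^ q = 1 :=
    orderOf_dvd_iff_pow_eq_one.1 ((Subgroup.orderOf_dvd_natCard M ht).trans (dvd_of_eq hM.card))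
  have hk₁q : k₁ ^ q = 1 := by
    have hc : Commute (x * t * x⁻¹) ((t ^ a)⁻¹) := by rw [hxte]; exact (hkt.mul_left (Commute.refl _)).inv_right
    rw [hk₁, hc.mul_pow, conj_pow, htq, mul_one, mul_inv_cancel, one_mul, inv_pow, ← zpow_natCast, ← zpow_mul,
      mul_comm, zpow_mul, zpow_natCast, htq, one_zpow, inv_one]
  have hk₁1 : k₁ = 1 := by
    have h1 : (orderOf k₁ : ℤ) ∣ b - 1 := orderOf_dvd_iff_zpow_eq_one.2 (by rw [zpow_sub_one, hwt, mul_inv_cancel])
    rcases (Nat.dvd_prime (Fact.out : q.Prime)).1 (orderOf_dvd_of_pow_eq_one hk₁q) with h2 | h2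
    · exact orderOf_eq_one_iff.1 h2
    exfalso
    refine ht1 (hM.faithful t ht (mul_inv_eq_iff_eq_mul.1 ?_))
    rw [← hb]
    have h3 : (orderOf t : ℤ) ∣ b - 1 := by
      refine dvd_trans ?_ (h2 ▸ h1)
      exact_mod_cast orderOf_dvd_of_pow_eq_one htq
    have h4 := orderOf_dvd_iff_zpow_eq_one.1 h3
    rwa [zpow_sub_one, mul_inv_eq_one] at h4
  rw [hk₁1, one_mul] at hxte
  have hxK : x * t ≠ t * x := fun e => ht1 (hM.faithful t ht ((hyK t htQ).1 ((hsame x hx t htQ).2 e)))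
  refine hne (eq_of_common (dvd_of_eq hL.card) (dvd_of_eq hM.card) (hL.disp_mem t htQ) ?_
    fun e => hxK (mul_inv_eq_iff_eq_mul.1 (inv_mul_eq_one.1 e).symm))
  show t⁻¹ * (x * t * x⁻¹) ∈ M
  rw [hxte]
  exact mul_mem (inv_mem ht) (zpow_mem ht a)

theorem relIndex_centralizer_dvd [Finite H] {Q : Subgroup H} [Q.Normal] (hQ : IsPGroup q Q) {g : H}
    (h : ¬ q ^ 2 ∣ (Subgroup.centralizer ({g} : Set H)).index) :
    (Subgroup.centralizer ({g} : Set H)).relIndex Q ∣ q := by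
  obtain ⟨k, hk⟩ := hQ.index ((Subgroup.centralizer ({g} : Set H)).subgroupOf Q)
  rw [Subgroup.relIndex, hk]
  refine (pow_dvd_pow q (show k ≤ 1 from ?_)).trans (by rw [pow_one])
  by_contra hlt
  exact h ((pow_dvd_pow q (by omega : 2 ≤ k)).trans (hk ▸ CfsgLib.TIHall.relIndex_dvd_index_of_normal_right _ Q))

/-- No class size divisible by `q ^ 2` and trivial `q'`-core: the derived subgroup has order at most `q`. -/
theorem card_commutator_le [Finite H] [Group.IsSolvable H] (hO : pPrimeCore q H = ⊥)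
    (h : ∀ g : H, ¬ q ^ 2 ∣ (Subgroup.centralizer ({g} : Set H)).index) : Nat.card (commutator H) ≤ q := by
  have hq := (Fact.out : q.Prime)
  rcases qElement_or_exists (q := q) (⊤ : Subgroup H) with hP | ⟨x, -, hx⟩
  · have hP' : IsPGroup q H := hP.of_equiv Subgroup.topEquiv
    refine card_commutator_le_of_pGroup hP' fun g => ?_
    obtain ⟨k, hk⟩ := hP'.index (Subgroup.centralizer ({g} : Set H))
    rw [hk]
    refine (pow_dvd_pow q (show k ≤ 1 from ?_)).trans (by rw [pow_one])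
    by_contra hlt
    exact h g (hk ▸ pow_dvd_pow q (by omega : 2 ≤ k))
  set Q := pCore q H with hQdef
  have hQ : IsPGroup q Q := isPGroup_pCore q
  have hCQ : Subgroup.centralizer (Q : Set H) ≤ Q := centralizer_pCore_le hq hO
  have hidx : ∀ g : H, (Subgroup.centralizer ({g} : Set H)).relIndex Q ∣ q := fun g => relIndex_centralizer_dvd hQ (h g)
  have hnot : ∀ y ∈ Q, ¬ IsPrimeEl q y := fun y hy hyP => hyP.2 (by
    obtain ⟨k, hk⟩ := IsPGroup.iff_orderOf.1 hQ ⟨y, hy⟩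
    rw [Subgroup.orderOf_mk] at hk
    rcases k with _ | k
    · rwa [pow_zero, orderOf_eq_one_iff] at hk
    · exact absurd ⟨q ^ k, by rw [hk, pow_succ']⟩ hyP.1)
  have hax : ∀ y : H, IsPrimeEl q y → ∃ L, IsAxis q Q y L := by
    intro y hy
    obtain ⟨v, hv, hyv⟩ : ∃ v ∈ Q, y * v ≠ v * y := by
      by_contra hall
      push Not at hall
      exact hnot y (hCQ (Subgroup.mem_centralizer_iff.2 fun v hv => (hall v hv).symm)) hy
    exact exists_axis hQ hy.1 (hidx y) hv hyv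
  have hmax : ∀ N : Subgroup H, N.Normal → IsPGroup q N → N ≤ Q := fun N hN hNp => le_pCore hNp
  obtain ⟨L, hL⟩ := hax x hx
  have hall : ∀ y : H, IsPrimeEl q y → IsAxis q Q y L := by
    intro y hy
    obtain ⟨M, hM⟩ := hax y hy
    rwa [axis_unique hax hidx hmax hx hL hM]
  obtain ⟨t, ht, ht1⟩ := hL.exists_ne_one
  have htQ := hL.le ht
  haveI hLn : L.Normal := by
    refine ⟨fun l hl g => ?_⟩
    have hz : IsPrimeEl q (g * x * g⁻¹) := by
      refine ⟨?_, fun e => hx.2 (conj_eq_one_iff.1 e)⟩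
      rw [show g * x * g⁻¹ = MulAut.conj g x from rfl, MulEquiv.orderOf_eq]
      exact hx.1
    obtain ⟨i, rfl⟩ := (eq_zpowers_of_card (q := q) (dvd_of_eq hL.card) (hL.disp_mem t htQ) (hL.disp_ne_one ht ht1)).le hl
    rw [← conj_zpow]
    refine zpow_mem ?_ i
    have h1 := (hall _ hz).disp_mem _ (Subgroup.Normal.conj_mem inferInstance t htQ g)
    have h2 : disp (g * x * g⁻¹) (g * t * g⁻¹) = g * disp x t * g⁻¹ := by simp only [disp]; group
    rwa [h2] at h1
  have hCL : Subgroup.centralizer (L : Set H) ≤ Q := by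
    refine hmax _ inferInstance ((qElement_or_exists _).resolve_right ?_)
    rintro ⟨y, hyc, hy⟩
    exact ht1 ((hall y hy).faithful t ht (Subgroup.mem_centralizer_iff.1 hyc t ht).symm)
  have hzp := eq_zpowers_of_card (q := q) (dvd_of_eq hL.card) ht ht1
  have hmemC : ∀ g : H, g * t * g⁻¹ = t → g ∈ Q := fun g hg => hCL (Subgroup.mem_centralizer_iff.2 fun l hl => by
    obtain ⟨j, rfl⟩ := hzp.le hl
    exact (Commute.zpow_right (mul_inv_eq_iff_eq_mul.1 hg : Commute g t) j).eq.symm)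
  have hexp : ∀ g : H, ∃ r : ℤ, g * t * g⁻¹ = t ^ r := fun g => by
    obtain ⟨r, hr⟩ := hzp.le (hLn.conj_mem t ht g)
    exact ⟨r, hr.symm⟩
  have htord : orderOf t = q := ((Nat.dvd_prime hq).1 ((Subgroup.orderOf_dvd_natCard L ht).trans
    (dvd_of_eq hL.card))).resolve_left fun e => ht1 (orderOf_eq_one_iff.1 e)
  have hqel : ∀ g : H, IsPiEl {q} g → g ∈ Q := by
    intro g hg
    obtain ⟨r, hr⟩ := hexp g
    obtain ⟨k, hk⟩ := (isPiEl_singleton hq).1 hg
    have hm : ∀ m : ℕ, g ^ m * t * (g ^ m)⁻¹ = t ^ (r ^ m) := by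
      intro m
      induction m with
      | zero => simp
      | succ m ih =>
        calc g ^ (m + 1) * t * (g ^ (m + 1))⁻¹ = g * (g ^ m * t * (g ^ m)⁻¹) * g⁻¹ := by rw [pow_succ']; group
          _ = _ := by rw [ih, ← conj_zpow, hr, ← zpow_mul, pow_succ']
    have h1 := hm (q ^ k)
    rw [← hk, pow_orderOf_eq_one, one_mul, inv_one, mul_one, hk] at h1
    have h1' : t ^ (1 : ℤ) = t ^ (r ^ (q ^ k)) := by rw [zpow_one]; exact h1
    rw [zpow_eq_zpow_iff_modEq, htord, ← ZMod.intCast_eq_intCast_iff, Int.cast_one, Int.cast_pow,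
      ZMod.pow_card_pow] at h1'
    refine hmemC g ?_
    rw [hr]
    have h2 : t ^ r = t ^ (1 : ℤ) := by
      rw [zpow_eq_zpow_iff_modEq, htord, ← ZMod.intCast_eq_intCast_iff, ← h1', Int.cast_one]
    rwa [zpow_one] at h2
  -- `Q` is abelian
  have hQab : ∀ u ∈ Q, ∀ v ∈ Q, Commute u v := by
    have hKab : ∀ c ∈ Q, x * c = c * x → ∀ k ∈ Q, x * k = k * x → Commute c k := by
      intro c hc hxc c' hc' hxc'
      by_contra hne
      set S := Subgroup.centralizer ({x * c} : Set H) ⊓ Q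
      have hsub : ∀ u ∈ S, x * u = u * x ∧ Commute c u := by
        intro u hu
        obtain ⟨huC, huQ⟩ := Subgroup.mem_inf.1 hu
        obtain ⟨i, hi⟩ := hL.decomp ht ht1 huQ
        set k := u * (t ^ i)⁻¹ with hk
        have hkQ : k ∈ Q := mul_mem huQ (inv_mem (zpow_mem htQ i))
        have hcK : x * (c * k * c⁻¹) * x⁻¹ = c * k * c⁻¹ :=
          mul_inv_eq_iff_eq_mul.2 (((show Commute x c from hxc).mul_right hi).mul_right
            (show Commute x c from hxc).inv_right)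
        have hti : Commute c (t ^ i) := ((hL.central t ht c hc).zpow_left i).symm
        have hu' : u = k * t ^ i := by rw [hk, inv_mul_cancel_right]
        have h1 : (x * c) * u * (x * c)⁻¹ = u :=
          mul_inv_eq_iff_eq_mul.2 (Subgroup.mem_centralizer_singleton_iff.1 huC).symm
        have h2 : (x * c) * u * (x * c)⁻¹ = (c * k * c⁻¹) * (x * t ^ i * x⁻¹) := by
          calc _ = (x * (c * k * c⁻¹) * x⁻¹) * (x * (c * t ^ i * c⁻¹) * x⁻¹) := by rw [hu']; group
            _ = _ := by rw [hcK, hti.eq, mul_inv_cancel_right]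
        rw [h2] at h1
        have h3 : (c * k * c⁻¹)⁻¹ * k = disp x (t ^ i) := by
          have : x * t ^ i * x⁻¹ = (c * k * c⁻¹)⁻¹ * (k * t ^ i) := by
            rw [← hu', eq_inv_mul_iff_mul_eq]; exact h1
          show _ = (t ^ i)⁻¹ * (x * t ^ i * x⁻¹)
          rw [this]
          have h := ((hL.central t ht ((c * k * c⁻¹)⁻¹ * k)
            (mul_mem (inv_mem (mul_mem (mul_mem hc hkQ) (inv_mem hc))) hkQ)).zpow_left i).eq
          calc _ = (t ^ i)⁻¹ * (t ^ i * ((c * k * c⁻¹)⁻¹ * k)) := by rw [inv_mul_cancel_left]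
            _ = _ := by rw [h]; group
        have h4 : disp x (t ^ i) = 1 := hL.faithful _ (hL.disp_mem _ (zpow_mem htQ i)) (by
          rw [← h3]
          exact ((((show Commute x c from hxc).mul_right hi).mul_right
            (show Commute x c from hxc).inv_right).inv_right.mul_right hi))
        have h5 : t ^ i = 1 := by
          by_contra hne'
          exact hL.disp_ne_one (zpow_mem ht i) hne' h4
        rw [h5, mul_one] at hu'
        rw [h4, inv_mul_eq_one, mul_inv_eq_iff_eq_mul] at h3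
        rw [hu']
        exact ⟨hi, h3⟩
      set K := Subgroup.centralizer ({x} : Set H) ⊓ Q
      have hSK : S ≤ K := fun u hu => Subgroup.mem_inf.2
        ⟨Subgroup.mem_centralizer_singleton_iff.2 (hsub u hu).1.symm, (Subgroup.mem_inf.1 hu).2⟩
      have hcard : Nat.card K ≤ Nat.card S := by
        have h1 := Subgroup.card_mul_index ((Subgroup.centralizer ({x * c} : Set H) ⊓ Q).subgroupOf Q)
        rw [Nat.card_congr (Subgroup.subgroupOfEquivOfLe inf_le_right).toEquiv, ← Subgroup.relIndex,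
          Subgroup.inf_relIndex_right] at h1
        refine Nat.le_of_mul_le_mul_right ?_ hq.pos
        rw [hL.card_fixed_mul (hidx x), ← h1]
        exact Nat.mul_le_mul_left _ (Nat.le_of_dvd hq.pos (hidx _))
      have hc'S : c' ∈ S := by
        rw [Subgroup.eq_of_le_of_card_ge hSK hcard]
        exact Subgroup.mem_inf.2 ⟨Subgroup.mem_centralizer_singleton_iff.2 hxc'.symm, hc'⟩
      exact hne (hsub c' hc'S).2
    intro u hu v hv
    obtain ⟨i, hi⟩ := hL.decomp ht ht1 hu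
    obtain ⟨j, hj⟩ := hL.decomp ht ht1 hv
    have hk := hKab _ (mul_mem hu (inv_mem (zpow_mem htQ i))) hi _ (mul_mem hv (inv_mem (zpow_mem htQ j))) hj
    have h1 : ∀ w ∈ Q, ∀ m : ℤ, Commute (t ^ m) w := fun w hw m => (hL.central t ht w hw).zpow_left m
    have h2 := (hk.mul_right (h1 _ (mul_mem hu (inv_mem (zpow_mem htQ i))) j).symm).mul_left
      (h1 _ (mul_mem (mul_mem hv (inv_mem (zpow_mem htQ j))) (zpow_mem htQ j)) i)
    simpa only [inv_mul_cancel_right] using h2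
  -- the quotient by `L` is commutative
  have hsplit : ∀ g : H, ∃ a ∈ Q, ∃ y : H, (y = 1 ∨ IsPrimeEl q y) ∧ g = a * y := by
    intro g
    obtain ⟨i, j, hi, hj, hij⟩ := exists_parts ({q} : Set ℕ) g
    refine ⟨_, hqel _ hi, _, ?_, hij.symm⟩
    by_cases h1 : g ^ j = 1
    · exact Or.inl h1
    · exact Or.inr ⟨fun hd => hj q hq hd rfl, h1⟩
  set π := QuotientGroup.mk' L
  have hcenQ : ∀ a ∈ Q, ∀ g : H, Commute (π a) (π g) := by
    intro a ha g
    obtain ⟨b, hb, y, hy, rfl⟩ := hsplit g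
    rw [map_mul]
    refine ((hQab a ha b hb).map π).mul_right ?_
    rcases hy with rfl | hy
    · rw [map_one]; exact Commute.one_right _
    show π a * π y = π y * π a
    rw [← map_mul, ← map_mul, QuotientGroup.mk'_eq_mk']
    refine ⟨y⁻¹ * disp y a * y, ?_, ?_⟩
    · simpa using hLn.conj_mem _ ((hall y hy).disp_mem a ha) y⁻¹
    · simp only [disp]; group
  have hyz : ∀ y z : H, (y = 1 ∨ IsPrimeEl q y) → Commute (π y) (π z) := by
    intro y z hy
    rcases hy with rfl | hy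
    · rw [map_one]; exact Commute.one_left _
    set w := y * z * y⁻¹ * z⁻¹ with hw
    have hwQ : w ∈ Q := by
      obtain ⟨r, hr⟩ := hexp y
      obtain ⟨s, hs⟩ := hexp z
      refine hmemC w ?_
      have h1 : (y * z) * t * (y * z)⁻¹ = (z * y) * t * (z * y)⁻¹ := by
        calc (y * z) * t * (y * z)⁻¹ = y * (z * t * z⁻¹) * y⁻¹ := by group
          _ = (t ^ r) ^ s := by rw [hs, ← conj_zpow, hr]
          _ = (t ^ s) ^ r := by rw [← zpow_mul, ← zpow_mul, mul_comm]
          _ = z * (y * t * y⁻¹) * z⁻¹ := by rw [hr, ← conj_zpow, hs]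
          _ = _ := by group
      have h3 : (y * z) * ((z * y)⁻¹ * t * (z * y)) * (y * z)⁻¹ = t := by
        calc (y * z) * ((z * y)⁻¹ * t * (z * y)) * (y * z)⁻¹
            = (y * z) * ((z * y)⁻¹ * ((y * z) * ((y * z)⁻¹ * t * (y * z)) * (y * z)⁻¹) * (z * y)) * (y * z)⁻¹ := by
              group
          _ = t := by
            obtain ⟨m, hm⟩ := hexp (y * z)⁻¹
            rw [inv_inv] at hm
            rw [hm, ← conj_zpow, h1, conj_zpow]
            calc (y * z) * ((z * y)⁻¹ * (z * y * t ^ m * (z * y)⁻¹) * (z * y)) * (y * z)⁻¹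
                = (y * z) * t ^ m * (y * z)⁻¹ := by group
              _ = t := by rw [← hm]; group
      calc w * t * w⁻¹ = (y * z) * ((z * y)⁻¹ * t * (z * y)) * (y * z)⁻¹ := by rw [hw]; group
        _ = t := h3

    have hwc := hcenQ w hwQ
    have hm : ∀ m : ℕ, π y ^ m * π z * (π y ^ m)⁻¹ = π w ^ m * π z := by
      intro m
      induction m with
      | zero => simp
      | succ m ih =>
        have h1 : π y * π z * (π y)⁻¹ = π w * π z := by
          rw [← map_inv, ← map_mul, ← map_mul, ← map_mul, hw]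
          congr 1; group
        calc π y ^ (m + 1) * π z * (π y ^ (m + 1))⁻¹ = π y * (π y ^ m * π z * (π y ^ m)⁻¹) * (π y)⁻¹ := by
              rw [pow_succ']; group
          _ = (π y * π w ^ m * (π y)⁻¹) * (π y * π z * (π y)⁻¹) := by rw [ih]; group
          _ = π w ^ m * (π w * π z) := by
              rw [((hwc y).pow_left m).symm.eq, mul_inv_cancel_right, h1]
          _ = _ := by rw [← mul_assoc, ← pow_succ]
    have h2 := hm (orderOf y)
    rw [← map_pow, pow_orderOf_eq_one, map_one, one_mul, inv_one, mul_one, right_eq_mul,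
      ← orderOf_dvd_iff_pow_eq_one] at h2
    obtain ⟨k, hk⟩ := IsPGroup.iff_orderOf.1 hQ ⟨w, hwQ⟩
    rw [Subgroup.orderOf_mk] at hk
    have h3 : π w = 1 := orderOf_eq_one_iff.1 (Nat.eq_one_of_dvd_coprimes
      ((hq.coprime_iff_not_dvd.2 hy.1).pow_left k) ((orderOf_map_dvd π w).trans (dvd_of_eq hk)) h2)
    rw [hw, map_mul, map_mul, map_mul, map_inv, map_inv, mul_inv_eq_one, mul_inv_eq_iff_eq_mul] at h3
    exact h3
  refine (Subgroup.card_le_of_le (K := L) ?_).trans hL.card.le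
  rw [commutator_def, Subgroup.commutator_le]
  intro g _ g' _
  rw [← QuotientGroup.eq_one_iff, ← QuotientGroup.mk'_apply, map_commutatorElement, commutatorElement_eq_one_iff_commute]
  obtain ⟨a, ha, y, hy, rfl⟩ := hsplit g
  rw [map_mul]
  exact (hcenQ a ha g').mul_left (hyz y g' hy)

end CfsgLib.SquareFreeClass
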