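import Mathlib
import Cfsg.Agent.Lib.SquareFreeClass.QBound
import Cfsg.Agent.Lib.Solvable.Supersolvable
import Cfsg.Agent.Lib.Elementary

/-!
Groups whose conjugacy class sizes are square-free.
-/

set_option autoImplicit false

namespace CfsgLib.SquareFreeClass

open Cfsg
open scoped commutatorElement IsMulCommutative

universe u

variable {G : Type u} [Group G]

theorem not_sq_dvd {n p : ℕ} (hn : Squarefree n) (hp : p.Prime) : ¬ p ^ 2 ∣ n := fun hd =>
  hp.ne_one (Nat.isUnit_iff.1 (hn p (by rwa [← sq])))

theorem isSolvable_aux : ∀ (n : ℕ) (G : Type u) [Group G] [Finite G], Nat.card G ≤ n →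
    (∀ g : G, Squarefree (Subgroup.centralizer ({g} : Set G)).index) → Group.IsSolvable G := by
  intro n
  induction n with
  | zero => intro G _ _ h _; exact absurd h (not_le.2 Nat.card_pos)
  | succ n ih =>
    intro G _ _ hcard h
    by_cases h1 : Nat.card G = 1
    · haveI := (Nat.card_eq_one_iff_unique.1 h1).1
      infer_instance
    haveI : Fact (Nat.card G).minFac.Prime := ⟨Nat.minFac_prime h1⟩
    set p := (Nat.card G).minFac
    have hpd : p ∣ Nat.card G := Nat.minFac_dvd _
    have hc := hasNormalPComplement (p := p) (fun q hq hd => Nat.minFac_le_of_dvd hq.two_le hd)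
      (fun g => not_sq_dvd (h g) Fact.out)
    have hq := hasNormalPComplement_iff.1 hc
    haveI : Group.IsSolvable (G ⧸ pPrimeCore p G) := by
      haveI := hq.isNilpotent
      infer_instance
    haveI : Group.IsSolvable (pPrimeCore p G) := by
      refine ih _ ?_ fun g => (h g).squarefree_of_dvd (index_centralizer_normal_dvd _ g)
      have h2 := Subgroup.card_subgroup_dvd_card (pPrimeCore p G)
      have h3 : Nat.card (pPrimeCore p G) ≠ Nat.card G := fun e => (Fact.out : p.Prime).ne_one
        (Nat.eq_one_of_dvd_coprimes (card_pPrimeCore_coprime p) (e ▸ hpd) dvd_rfl)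
      have h4 := Nat.le_of_dvd Nat.card_pos h2
      omega
    exact Group.isSolvable_of_ker_le_range (pPrimeCore p G).subtype (QuotientGroup.mk' (pPrimeCore p G)) (by simp)

theorem isSolvable [Finite G] (h : ∀ g : G, Squarefree (Subgroup.centralizer ({g} : Set G)).index) :
    Group.IsSolvable G :=
  isSolvable_aux _ G le_rfl h

theorem isSupersolvable_comm_aux : ∀ (n : ℕ) (G : Type u) [Group G] [Finite G], Nat.card G ≤ n →
    (∀ a b : G, a * b = b * a) → IsSupersolvable G := by
  intro n
  induction n with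
  | zero => intro G _ _ h _; exact absurd h (not_le.2 Nat.card_pos)
  | succ n ih =>
    intro G _ _ hcard hc
    rcases subsingleton_or_nontrivial G with hs | hs
    · exact Supersolvable.of_subsingleton
    obtain ⟨g, hg⟩ := exists_ne (1 : G)
    haveI : (Subgroup.zpowers g).Normal := ⟨fun u hu w => by rw [hc w u, mul_inv_cancel_right]; exact hu⟩
    refine Supersolvable.of_quotient (Subgroup.zpowers g) (ih _ ?_ ?_)
    · have := Supersolvable.card_quotient_lt (Subgroup.zpowers g) (Subgroup.zpowers_ne_bot.2 hg)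
      omega
    · intro a b
      obtain ⟨a, rfl⟩ := QuotientGroup.mk'_surjective _ a
      obtain ⟨b, rfl⟩ := QuotientGroup.mk'_surjective _ b
      rw [← map_mul, ← map_mul, hc]

theorem card_derived [Finite G] (h : ∀ g : G, Squarefree (Subgroup.centralizer ({g} : Set G)).index) :
    Squarefree (Nat.card (commutator G)) ∧ ∀ a ∈ commutator G, ∀ b ∈ commutator G, a * b = b * a := by
  haveI := isSolvable h
  have key : ∀ q : ℕ, q.Prime → Nat.card ((commutator G).map (QuotientGroup.mk' (pPrimeCore q G))) ∣ q ∧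
      ∀ a ∈ commutator G, ∀ b ∈ commutator G, ⁅a, b⁆ ∈ pPrimeCore q G := by
    intro q hq
    haveI := Fact.mk hq
    haveI : Group.IsSolvable (G ⧸ pPrimeCore q G) :=
      Group.isSolvable_of_surjective (QuotientGroup.mk'_surjective (pPrimeCore q G))
    have h1 := card_commutator_le (H := G ⧸ pPrimeCore q G) (q := q) (pPrimeCore_quotient_eq_bot q) fun g hd => by
      obtain ⟨g, rfl⟩ := QuotientGroup.mk'_surjective _ g
      exact not_sq_dvd (h g) hq (hd.trans (index_centralizer_mk_dvd _ g))
    have hmap : (commutator G).map (QuotientGroup.mk' (pPrimeCore q G)) = commutator (G ⧸ pPrimeCore q G) := by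
      rw [commutator_def, commutator_def, Subgroup.map_commutator,
        Subgroup.map_top_of_surjective _ (QuotientGroup.mk'_surjective _)]
    have hdvd : Nat.card (commutator (G ⧸ pPrimeCore q G)) ∣ q := by
      set C := commutator (G ⧸ pPrimeCore q G)
      by_cases hC1 : Nat.card C = 1
      · rw [hC1]; exact one_dvd _
      obtain ⟨r, hr, hrd⟩ := Nat.exists_prime_and_dvd hC1
      haveI := Fact.mk hr
      obtain ⟨a, ha⟩ := exists_prime_orderOf_dvd_card' r hrd
      have hrq : r = q := by
        by_contra hne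
        have hle : r ≤ q := (Nat.le_of_dvd Nat.card_pos hrd).trans h1
        have hn : (C : Subgroup (G ⧸ pPrimeCore q G)).Normal := inferInstance
        have hcop : (Nat.card C).Coprime q := ((hq.coprime_iff_not_dvd).2 fun hd => hne
          (le_antisymm hle (by
            have := (Nat.le_of_dvd Nat.card_pos hd).antisymm h1
            rw [← this] at hrd
            exact ((Nat.prime_dvd_prime_iff_eq hr hq).1 hrd).ge))).symm
        have := le_pPrimeCore hcop
        rw [pPrimeCore_quotient_eq_bot, le_bot_iff] at this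
        exact hC1 (by rw [this, Subgroup.card_bot])
      subst hrq
      rw [(Nat.le_of_dvd Nat.card_pos hrd).antisymm' h1]
    refine ⟨hmap ▸ hdvd, fun a ha b hb => ?_⟩
    rw [← QuotientGroup.eq_one_iff, ← QuotientGroup.mk'_apply, map_commutatorElement,
      commutatorElement_eq_one_iff_mul_comm]
    have ha' : QuotientGroup.mk' (pPrimeCore q G) a ∈ commutator (G ⧸ pPrimeCore q G) := hmap ▸ Subgroup.mem_map_of_mem _ ha
    have hb' : QuotientGroup.mk' (pPrimeCore q G) b ∈ commutator (G ⧸ pPrimeCore q G) := hmap ▸ Subgroup.mem_map_of_mem _ hb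
    by_cases h1' : QuotientGroup.mk' (pPrimeCore q G) a = 1
    · rw [h1', one_mul, mul_one]
    obtain ⟨i, hi⟩ := (eq_zpowers_of_card hdvd ha' h1').le hb'
    rw [← hi]
    exact (Commute.self_zpow _ i).eq
  refine ⟨Nat.squarefree_iff_prime_squarefree.2 fun q hq hd => ?_, fun a ha b hb => ?_⟩
  · haveI := Fact.mk hq
    set N := pPrimeCore q G
    let f := (QuotientGroup.mk' N).subgroupMap (commutator G)
    have h2 := f.ker.card_mul_index
    rw [Subgroup.index_ker, MonoidHom.range_eq_top.2 ((QuotientGroup.mk' N).subgroupMap_surjective _),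
      Subgroup.card_top] at h2
    have h3 : (Nat.card f.ker).Coprime q := by
      refine Nat.Coprime.coprime_dvd_left ?_ (card_pPrimeCore_coprime (G := G) q)
      refine Subgroup.card_dvd_of_injective ((((commutator G).subtype).comp f.ker.subtype).codRestrict N fun z => ?_) ?_
      · exact (QuotientGroup.eq_one_iff _).1 (congrArg Subtype.val z.2)
      · intro z w hzw
        exact Subtype.ext (Subtype.ext (congrArg (fun u : N => (u : G)) hzw))
    rw [← h2] at hd
    have h4 : q * q ∣ q := ((Nat.Coprime.mul_right h3 h3).symm.dvd_of_dvd_mul_left hd).trans (key q hq).1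
    have h5 := Nat.le_of_dvd hq.pos h4
    nlinarith [hq.two_le]
  · rw [← commutatorElement_eq_one_iff_mul_comm, ← orderOf_eq_one_iff]
    exact Nat.eq_one_iff_not_exists_prime_dvd.2 fun q hq hd => hq.ne_one
      (Nat.eq_one_of_dvd_coprimes (card_pPrimeCore_coprime q)
        (hd.trans (Subgroup.orderOf_dvd_natCard _ ((key q hq).2 a ha b hb))) dvd_rfl)

theorem le_center_of_cyclic_squarefree [Finite G] [Group.IsNilpotent G] (N : Subgroup G) [N.Normal] [IsCyclic N]
    (hsq : Squarefree (Nat.card N)) : N ≤ Subgroup.center G := by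
  by_contra hnot
  set Z := N ⊓ Subgroup.center G
  obtain ⟨m, hm⟩ : Nat.card Z ∣ Nat.card N := Subgroup.card_dvd_of_le inf_le_left
  have hm1 : m ≠ 1 := fun e => hnot (by
    have := Subgroup.eq_of_le_of_card_ge (inf_le_left : Z ≤ N) (by rw [hm, e, mul_one])
    exact this ▸ inf_le_right)
  obtain ⟨q, hq, hqm⟩ := Nat.exists_prime_and_dvd hm1
  haveI := Fact.mk hq
  obtain ⟨a, ha⟩ := exists_prime_orderOf_dvd_card' q (hqm.trans ⟨Nat.card Z, by rw [hm, mul_comm]⟩ : q ∣ Nat.card N)
  have haN : Subgroup.zpowers (a : G) ≤ N := Subgroup.zpowers_le.2 a.2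
  haveI := Supersolvable.normal_of_le_cyclic (C := N) haN
  have hcard : Nat.card (Subgroup.zpowers (a : G)) = q := by
    rw [Nat.card_zpowers, Subgroup.orderOf_coe, ha]
  have hne := inf_center_ne_bot_of_nilpotent (G := G) (N := Subgroup.zpowers (a : G)) (fun e => by
    rw [e, Subgroup.card_bot] at hcard; exact hq.ne_one hcard.symm)
  obtain ⟨c, hc, hc1⟩ : ∃ c ∈ Subgroup.zpowers (a : G) ⊓ Subgroup.center G, c ≠ 1 := by
    by_contra hall
    push Not at hall
    exact hne (eq_bot_iff.2 fun c hc => Subgroup.mem_bot.2 (hall c hc))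
  obtain ⟨hc2, hc3⟩ := Subgroup.mem_inf.1 hc
  have hcq : q ∣ Nat.card Z := by
    have h1 : orderOf c = q := ((Nat.dvd_prime hq).1 ((Subgroup.orderOf_dvd_natCard _ hc2).trans
      (dvd_of_eq hcard))).resolve_left fun e => hc1 (orderOf_eq_one_iff.1 e)
    exact h1 ▸ Subgroup.orderOf_dvd_natCard Z (Subgroup.mem_inf.2 ⟨haN hc2, hc3⟩)
  exact not_sq_dvd hsq hq (by rw [sq, hm]; exact mul_dvd_mul hcq hqm)

theorem structure_theorem [Finite G] (h : ∀ g : G, Squarefree (Subgroup.centralizer ({g} : Set G)).index) :
    IsSupersolvable G ∧ IsCyclic (commutator G) ∧ Squarefree (Nat.card (commutator G)) ∧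
      (∀ [(fittingSubgroup G).Normal], IsCyclic (G ⧸ fittingSubgroup G) ∧ Squarefree (fittingSubgroup G).index) ∧
      Subgroup.upperCentralSeries ↥(fittingSubgroup G) 2 = ⊤ ∧ commutator ↥(commutator G) = ⊥ := by
  obtain ⟨hsq, hab⟩ := card_derived h
  haveI : IsMulCommutative (commutator G) := ⟨⟨fun a b => Subtype.ext (hab a a.2 b b.2)⟩⟩
  haveI := IsZGroup.of_squarefree hsq
  haveI hcyc : IsCyclic (commutator G) := inferInstance
  have hGab : ∀ (N : Subgroup G) [N.Normal], commutator G ≤ N → ∀ a b : G ⧸ N, a * b = b * a := by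
    intro N _ hle a b
    obtain ⟨a, rfl⟩ := QuotientGroup.mk'_surjective _ a
    obtain ⟨b, rfl⟩ := QuotientGroup.mk'_surjective _ b
    rw [← commutatorElement_eq_one_iff_mul_comm, ← map_commutatorElement, QuotientGroup.mk'_apply,
      QuotientGroup.eq_one_iff]
    exact hle (by rw [commutator_def]; exact Subgroup.commutator_mem_commutator trivial trivial)
  obtain ⟨z, hz⟩ := IsCyclic.exists_generator (α := commutator G)
  set C := Subgroup.centralizer ({(z : G)} : Set G) with hC
  have hCeq : ∀ c ∈ C, ∀ d ∈ commutator G, Commute c d := by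
    intro c hc d hd
    obtain ⟨i, hi⟩ := hz ⟨d, hd⟩
    have hi' : (z : G) ^ i = d := by simpa using congrArg Subtype.val hi
    rw [← hi']
    exact Commute.zpow_right (Subgroup.mem_centralizer_singleton_iff.1 hc : Commute c z) i
  haveI hCn : C.Normal := ⟨fun c hc g => Subgroup.mem_centralizer_singleton_iff.2 (by
    have h2 := hCeq c hc _ ((inferInstance : (commutator G).Normal).conj_mem _ z.2 g⁻¹)
    have h3 := h2.map (MulAut.conj g).toMonoidHom
    have h4 : Commute (g * c * g⁻¹) (z : G) := by simpa [mul_assoc] using h3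
    exact h4.eq)⟩
  have hle : commutator G ≤ C := fun d hd => Subgroup.mem_centralizer_singleton_iff.2 (hab d hd z z.2)
  haveI hCnil : Group.IsNilpotent C := by
    refine ⟨⟨2, eq_top_iff.2 fun c _ => ?_⟩⟩
    rw [Subgroup.mem_upperCentralSeries_succ_iff]
    intro d
    rw [Subgroup.upperCentralSeries_one, Subgroup.mem_center_iff]
    intro e
    refine Subtype.ext ?_
    show (e : G) * ((c : G) * d * (c : G)⁻¹ * (d : G)⁻¹) = ((c : G) * d * (c : G)⁻¹ * (d : G)⁻¹) * e
    exact (hCeq e e.2 _ (by rw [← commutatorElement_def, commutator_def]; exact Subgroup.commutator_mem_commutator trivial trivial)).eq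
  have hCF : C ≤ fittingSubgroup G := le_fittingSubgroup hCnil
  haveI : IsCyclic (G ⧸ C) := by
    haveI : IsMulCommutative (G ⧸ C) := ⟨⟨hGab C hle⟩⟩
    haveI := IsZGroup.of_squarefree (show Squarefree (Nat.card (G ⧸ C)) by rw [← Subgroup.index_eq_card]; exact h _)
    infer_instance
  refine ⟨?_, hcyc, hsq, ?_, ?_, ?_⟩
  · exact Supersolvable.of_quotient (commutator G) (isSupersolvable_comm_aux _ _ le_rfl (hGab _ le_rfl))
  · intro _
    refine ⟨isCyclic_of_surjective (QuotientGroup.map C (fittingSubgroup G) (MonoidHom.id G) hCF) ?_,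
      (h _).squarefree_of_dvd (Subgroup.index_dvd_of_le hCF)⟩
    intro x
    obtain ⟨x, rfl⟩ := QuotientGroup.mk'_surjective _ x
    exact ⟨(x : G ⧸ C), rfl⟩
  · haveI := isNilpotent_fittingSubgroup (G := G)
    set F := fittingSubgroup G
    set N := (commutator G ⊓ F).subgroupOf F
    haveI : IsCyclic (commutator G ⊓ F : Subgroup G) := Subgroup.isCyclic_of_le inf_le_left
    haveI : IsCyclic N := isCyclic_of_surjective (Subgroup.subgroupOfEquivOfLe inf_le_right).symm.toMonoidHom
      (Subgroup.subgroupOfEquivOfLe inf_le_right).symm.surjective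
    have hcen := le_center_of_cyclic_squarefree N (by
      rw [Nat.card_congr (Subgroup.subgroupOfEquivOfLe inf_le_right).toEquiv]
      exact hsq.squarefree_of_dvd (Subgroup.card_dvd_of_le inf_le_left))
    refine eq_top_iff.2 fun c _ => ?_
    rw [Subgroup.mem_upperCentralSeries_succ_iff]
    intro d
    rw [Subgroup.upperCentralSeries_one]
    refine hcen (Subgroup.mem_subgroupOf.2 (Subgroup.mem_inf.2 ⟨?_, ((c * d * c⁻¹ * d⁻¹ : F)).2⟩))
    show (c : G) * d * (c : G)⁻¹ * (d : G)⁻¹ ∈ commutator G
    rw [← commutatorElement_def, commutator_def]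
    exact Subgroup.commutator_mem_commutator trivial trivial
  · refine (commutator_def ↥(commutator G)).trans (Subgroup.commutator_eq_bot_iff_le_centralizer.2 ?_)
    intro a _ b _
    exact Subtype.ext (hab b b.2 a a.2)

end CfsgLib.SquareFreeClass
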